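import Cfsg.Agent.H73.Pauli.Negative

/-!
# A Pauli frame of the 2-group of order 64 and elements of its normaliser
-/

set_option autoImplicit false
set_option linter.unusedSectionVars false
set_option linter.style.haveILetI false

namespace Cfsg.Agent.H73.Pauli

open scoped Matrix
open scoped MatrixGroups

variable {F : Type*} [Field F]

/-- `e k ↦ e (k xor 1)`. -/
def sA1 : Matrix (Fin 4) (Fin 4) F := !![0, 1, 0, 0; 1, 0, 0, 0; 0, 0, 0, 1; 0, 0, 1, 0]
/-- `e k ↦ e (k xor 2)`. -/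
def sA2 : Matrix (Fin 4) (Fin 4) F := !![0, 0, 1, 0; 0, 0, 0, 1; 1, 0, 0, 0; 0, 1, 0, 0]
/-- The sign of the low bit. -/
def sB1 : Matrix (Fin 4) (Fin 4) F := !![1, 0, 0, 0; 0, -1, 0, 0; 0, 0, 1, 0; 0, 0, 0, -1]
/-- The sign of the high bit. -/
def sB2 : Matrix (Fin 4) (Fin 4) F := !![1, 0, 0, 0; 0, 1, 0, 0; 0, 0, -1, 0; 0, 0, 0, -1]
/-- The controlled sign. -/
def cz : Matrix (Fin 4) (Fin 4) F := !![1, 0, 0, 0; 0, 1, 0, 0; 0, 0, 1, 0; 0, 0, 0, -1]
/-- Order 3, no fixed vector. -/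
def y31 (i : F) : Matrix (Fin 4) (Fin 4) F :=
  !![(-1 + i) / 2, (1 + i) / 2, 0, 0; (-1 + i) / 2, (-1 - i) / 2, 0, 0;
    0, 0, (-1 + i) / 2, (1 + i) / 2; 0, 0, (-1 + i) / 2, (-1 - i) / 2]
/-- Order 3, trace 1. -/
def y32 (i : F) : Matrix (Fin 4) (Fin 4) F :=
  !![-i / 2, -1 / 2, -1 / 2, i / 2; -i / 2, 1 / 2, -1 / 2, -i / 2;
    -i / 2, -1 / 2, 1 / 2, -i / 2; -i / 2, 1 / 2, 1 / 2, i / 2]
/-- Order 5. -/
def y5 (i : F) : Matrix (Fin 4) (Fin 4) F :=
  !![0, (-1 + i) / 2, 0, (1 + i) / 2; 0, (-1 + i) / 2, 0, (-1 - i) / 2;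
    (-1 + i) / 2, 0, (-1 - i) / 2, 0; (-1 + i) / 2, 0, (1 + i) / 2, 0]

theorem std_commutant (h2 : (2 : F) ≠ 0) (M : Matrix (Fin 4) (Fin 4) F) (h1 : M * sA1 = sA1 * M)
    (h1' : M * sB1 = sB1 * M) (h3 : M * sA2 = sA2 * M) (h3' : M * sB2 = sB2 * M) :
    M = M 0 0 • 1 := by
  have d : ∀ a b : F, a = -b → a = b → a = 0 := fun a b e e' =>
    (mul_eq_zero.1 (show (2 : F) * a = 0 by linear_combination e + e')).resolve_left h2
  have p := fun a b => congrFun (congrFun h1 a) b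
  have q := fun a b => congrFun (congrFun h3 a) b
  have u := fun a b => congrFun (congrFun h1' a) b
  have v := fun a b => congrFun (congrFun h3' a) b
  simp only [Matrix.mul_apply, Fin.sum_univ_four] at p q u v
  ext a b
  fin_cases a <;> fin_cases b
  · simp
  · have := u 0 1; simp [sB1] at this ⊢; exact d _ _ (by linear_combination -this) rfl
  · have := v 0 2; simp [sB2] at this ⊢; exact d _ _ (by linear_combination -this) rfl
  · have := v 0 3; simp [sB2] at this ⊢; exact d _ _ (by linear_combination -this) rfl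
  · have := u 1 0; simp [sB1] at this ⊢; exact d _ _ (by linear_combination this) rfl
  · have := p 0 1; simp [sA1] at this ⊢; linear_combination -this
  · have := v 1 2; simp [sB2] at this ⊢; exact d _ _ (by linear_combination -this) rfl
  · have := v 1 3; simp [sB2] at this ⊢; exact d _ _ (by linear_combination -this) rfl
  · have := v 2 0; simp [sB2] at this ⊢; exact d _ _ (by linear_combination this) rfl
  · have := v 2 1; simp [sB2] at this ⊢; exact d _ _ (by linear_combination this) rfl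
  · have := q 0 2; simp [sA2] at this ⊢; linear_combination -this
  · have := u 2 3; simp [sB1] at this ⊢; exact d _ _ (by linear_combination -this) rfl
  · have := v 3 0; simp [sB2] at this ⊢; exact d _ _ (by linear_combination this) rfl
  · have := v 3 1; simp [sB2] at this ⊢; exact d _ _ (by linear_combination this) rfl
  · have := u 3 2; simp [sB1] at this ⊢; exact d _ _ (by linear_combination this) rfl
  · have := p 2 3
    have h := q 0 2
    simp [sA1] at this ⊢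
    simp [sA2] at h
    linear_combination -this - h

variable {R : Subgroup (GL (Fin 4) F)} {i : F}

theorem neg_of_anti {x y A : GL (Fin 4) F} (hx : x * A = -(A * x)) (hy : y * A = -(A * y)) :
    Commute (x * y) A := by
  show x * y * A = A * (x * y)
  rw [mul_assoc, hy, mul_neg, ← mul_assoc, hx, neg_mul, neg_neg, mul_assoc]

theorem anti_of_commute {x y A : GL (Fin 4) F} (hx : x * A = -(A * x)) (hy : Commute y A) :
    (x * y) * A = -(A * (x * y)) := by
  rw [mul_assoc, hy.eq, ← mul_assoc, hx, neg_mul, mul_assoc]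

variable (hd : PauliData R i)
include hd

theorem exists_involution {g : GL (Fin 4) F} (hg : g ∈ R) :
    ∃ h ∈ R, h * h = 1 ∧ (IsScalar h → IsScalar g) ∧
      (∀ a, Commute g a → Commute h a) ∧ (∀ a, g * a = -(a * g) → h * a = -(a * h)) := by
  rcases hd.sq g hg with e | e
  · exact ⟨g, hg, e, id, fun _ => id, fun _ => id⟩
  obtain ⟨t, ht⟩ := exists_scalar hd.i_ne_zero
  have hts : IsScalar t := ⟨i, ht⟩
  have ht2 : t * t = -1 := Units.ext (by
    rw [Units.val_mul, ht, Matrix.smul_mul, Matrix.mul_smul, smul_smul, one_mul, hd.i_sq, Units.val_neg,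
      Units.val_one, neg_smul, one_smul])
  refine ⟨t * g, mul_mem (hd.imem t ht) hg, ?_, ?_, fun a ha => (hts.commute a).mul_left ha,
    fun a ha => ?_⟩
  · rw [(hts.commute g).symm.mul_mul_mul_comm, ht2, e, neg_mul_neg, one_mul]
  · rintro ⟨c, hc⟩
    refine ⟨i⁻¹ * c, ?_⟩
    rw [Units.val_mul, ht, Matrix.smul_mul, one_mul] at hc
    rw [← smul_smul, ← hc, smul_smul, inv_mul_cancel₀ hd.i_ne_zero, one_smul]
  · rw [mul_assoc, ha, mul_neg, ← mul_assoc, (hts.commute a).eq, mul_assoc]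

theorem exists_adjust {A B g : GL (Fin 4) F} (hA : A ∈ R) (hB : B ∈ R) (hg : g ∈ R) (hAB : A * B = -(B * A)) :
    ∃ w, (w = 1 ∨ w = A ∨ w = B ∨ w = A * B) ∧ Commute (g * w) A ∧ Commute (g * w) B := by
  have hBA : B * A = -(A * B) := by rw [hAB, neg_neg]
  rcases hd.comm g hg A hA with ea | ea <;> rcases hd.comm g hg B hB with eb | eb
  · exact ⟨1, Or.inl rfl, by rw [mul_one]; exact ⟨ea, eb⟩⟩
  · exact ⟨A, Or.inr (Or.inl rfl), (show Commute g A from ea).mul_left (Commute.refl A), neg_of_anti eb hAB⟩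
  · exact ⟨B, Or.inr (Or.inr (Or.inl rfl)), neg_of_anti ea hBA, (show Commute g B from eb).mul_left (Commute.refl B)⟩
  · refine ⟨A * B, Or.inr (Or.inr (Or.inr rfl)), neg_of_anti ea ?_, neg_of_anti eb (anti_of_commute hAB (Commute.refl B))⟩
    rw [mul_assoc, hBA, mul_neg]

theorem exists_nonscalar : ∃ g ∈ R, ¬ IsScalar g := by
  by_contra hcon
  push Not at hcon
  obtain ⟨c, hc⟩ := hd.schur (Matrix.single 0 1 1) fun g hg => by
    obtain ⟨a, ha⟩ := hcon g hg
    rw [ha, Matrix.mul_smul, Matrix.smul_mul, one_mul, mul_one]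
  have := congrFun (congrFun hc 0) 1
  simp at this

theorem scalar_mem_cases {g : GL (Fin 4) F} (hg : g ∈ R) {c : F}
    (hc : (g : Matrix (Fin 4) (Fin 4) F) = c • 1) : c = 1 ∨ c = -1 ∨ c = i ∨ c = -i := by
  have hc4 := hd.scalar_pow g hg c hc
  have : (c - 1) * (c + 1) * ((c - i) * (c + i)) = 0 := by
    linear_combination hc4 - (c * c - 1) * hd.i_sq
  rcases mul_eq_zero.1 this with e | e <;> rcases mul_eq_zero.1 e with e | e
  · exact Or.inl (by linear_combination e)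
  · exact Or.inr (Or.inl (by linear_combination e))
  · exact Or.inr (Or.inr (Or.inl (by linear_combination e)))
  · exact Or.inr (Or.inr (Or.inr (by linear_combination e)))

/-- Some non-scalar element commutes with an anticommuting pair of involutions. -/
theorem exists_commuting {A B : GL (Fin 4) F} (hA : A ∈ R) (hB : B ∈ R) (hAB : A * B = -(B * A)) :
    ∃ g ∈ R, ¬ IsScalar g ∧ Commute g A ∧ Commute g B := by
  classical
  by_contra hcon
  push Not at hcon
  let w : Fin 4 → GL (Fin 4) F := ![1, A, B, A * B]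
  let s : Fin 4 → F := ![1, -1, i, -i]
  haveI : Finite R := Nat.finite_of_card_ne_zero (by rw [hd.card]; norm_num)
  have hcov : ∀ g : R, ∃ k : Fin 4 × Fin 4, ((g.1 * w k.1 : GL (Fin 4) F) : Matrix (Fin 4) (Fin 4) F) = s k.2 • 1 := by
    intro g
    obtain ⟨v, hv, hvA, hvB⟩ := exists_adjust hd hA hB g.2 hAB
    have hk : ∃ k : Fin 4, v = w k := by
      rcases hv with h | h | h | h
      exacts [⟨0, h⟩, ⟨1, h⟩, ⟨2, h⟩, ⟨3, h⟩]
    obtain ⟨k, rfl⟩ := hk
    have hmem : g.1 * w k ∈ R := by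
      refine mul_mem g.2 ?_
      rcases hv with h | h | h | h <;> rw [h]
      exacts [one_mem _, hA, hB, mul_mem hA hB]
    obtain ⟨c, hc⟩ : IsScalar (g.1 * w k) := by
      by_contra hns
      exact hcon _ hmem hns hvA hvB
    rcases scalar_mem_cases hd hmem hc with rfl | rfl | rfl | rfl
    exacts [⟨(k, 0), hc⟩, ⟨(k, 1), hc⟩, ⟨(k, 2), hc⟩, ⟨(k, 3), hc⟩]
  choose f hf using hcov
  have hinj : Function.Injective f := fun a b h => by
    have h1 : a.1 * w (f a).1 = b.1 * w (f a).1 := Units.ext (by rw [hf a, h, hf b])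
    exact Subtype.ext (mul_right_cancel h1)
  have := Nat.card_le_card_of_injective f hinj
  rw [hd.card, Nat.card_prod, Nat.card_fin] at this
  omega

omit hd in
/-- A frame: `R` is carried to the standard Pauli group by `P`. -/
structure Frame (R : Subgroup (GL (Fin 4) F)) (P : GL (Fin 4) F) : Prop where
  a1 : ∃ g ∈ R, (g : Matrix (Fin 4) (Fin 4) F) * (P : Matrix (Fin 4) (Fin 4) F) = (P : Matrix (Fin 4) (Fin 4) F) * sA1
  b1 : ∃ g ∈ R, (g : Matrix (Fin 4) (Fin 4) F) * (P : Matrix (Fin 4) (Fin 4) F) = (P : Matrix (Fin 4) (Fin 4) F) * sB1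
  a2 : ∃ g ∈ R, (g : Matrix (Fin 4) (Fin 4) F) * (P : Matrix (Fin 4) (Fin 4) F) = (P : Matrix (Fin 4) (Fin 4) F) * sA2
  b2 : ∃ g ∈ R, (g : Matrix (Fin 4) (Fin 4) F) * (P : Matrix (Fin 4) (Fin 4) F) = (P : Matrix (Fin 4) (Fin 4) F) * sB2
  gen : ∀ K : Subgroup (GL (Fin 4) F), (∀ g ∈ R, IsScalar g → g ∈ K) →
    (∀ g ∈ R, ∀ s ∈ ({sA1, sB1, sA2, sB2} : Set (Matrix (Fin 4) (Fin 4) F)),
      (g : Matrix (Fin 4) (Fin 4) F) * (P : Matrix (Fin 4) (Fin 4) F) = (P : Matrix (Fin 4) (Fin 4) F) * s → g ∈ K) → R ≤ K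

theorem exists_frame : ∃ P : GL (Fin 4) F, Frame R P := by
  classical
  obtain ⟨g0, hg0, hg0s⟩ := exists_nonscalar hd
  obtain ⟨B1, hB1, hB12, hB1s, -, -⟩ := exists_involution hd hg0
  obtain ⟨a0, ha0, ha0'⟩ := hd.exists_anti hB1 (fun h => hg0s (hB1s h))
  obtain ⟨A1, hA1, hA12, -, -, hA1a⟩ := exists_involution hd ha0
  have hab1 : A1 * B1 = -(B1 * A1) := hA1a B1 (by rw [ha0', neg_neg])
  obtain ⟨d0, hd0, hd0s, hd0A, hd0B⟩ := exists_commuting hd hA1 hB1 hab1
  obtain ⟨B2, hB2, hB22, hB2s, hB2c, -⟩ := exists_involution hd hd0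
  have cB2A1 : Commute B2 A1 := hB2c A1 hd0A
  have cB2B1 : Commute B2 B1 := hB2c B1 hd0B
  obtain ⟨a1, ha1, ha1'⟩ := hd.exists_anti hB2 (fun h => hd0s (hB2s h))
  obtain ⟨w, hw, hwA, hwB⟩ := exists_adjust hd hA1 hB1 ha1 hab1
  have hwB2 : Commute w B2 := by
    rcases hw with h | h | h | h <;> rw [h]
    exacts [Commute.one_left _, cB2A1.symm, cB2B1.symm, cB2A1.symm.mul_left cB2B1.symm]
  have hwR : w ∈ R := by
    rcases hw with h | h | h | h <;> rw [h]
    exacts [one_mem _, hA1, hB1, mul_mem hA1 hB1]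
  obtain ⟨A2, hA2, hA22, -, hA2c, hA2a⟩ := exists_involution hd (mul_mem ha1 hwR)
  have hab2 : A2 * B2 = -(B2 * A2) := hA2a B2 (anti_of_commute (by rw [ha1', neg_neg]) hwB2)
  have cA2A1 : Commute A2 A1 := hA2c A1 hwA
  have cA2B1 : Commute A2 B1 := hA2c B1 hwB
  -- matrices
  set a := (A1 : Matrix (Fin 4) (Fin 4) F)
  set b := (B1 : Matrix (Fin 4) (Fin 4) F)
  set c := (A2 : Matrix (Fin 4) (Fin 4) F)
  set e := (B2 : Matrix (Fin 4) (Fin 4) F)
  have haa : a * a = 1 := congrArg Units.val hA12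
  have hbb : b * b = 1 := congrArg Units.val hB12
  have hcc : c * c = 1 := congrArg Units.val hA22
  have hee : e * e = 1 := congrArg Units.val hB22
  have hba : b * a = -(a * b) := by
    rw [show a * b = -(b * a) from congrArg Units.val hab1, neg_neg]
  have hec : e * c = -(c * e) := by
    rw [show c * e = -(e * c) from congrArg Units.val hab2, neg_neg]
  have hea : e * a = a * e := congrArg Units.val cB2A1.eq
  have heb : e * b = b * e := congrArg Units.val cB2B1.eq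
  have hca : c * a = a * c := congrArg Units.val cA2A1.eq
  have hcb : b * c = c * b := congrArg Units.val cA2B1.eq.symm
  have hnz : (1 + b) * (1 + e) ≠ 0 := by
    intro h
    have hbs : ¬ IsScalar B1 := fun h => hd.not_commute_of_anti hab1 (h.commute A1).symm
    have hes : ¬ IsScalar B2 := fun h => hd.not_commute_of_anti hab2 (h.commute A2).symm
    have hbes : ¬ IsScalar (B1 * B2) := by
      intro hs
      refine hd.not_commute_of_anti (g := B1 * B2) (h := A1) ?_ (hs.commute A1)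
      exact anti_of_commute (by rw [hab1, neg_neg]) cB2A1
    have ht := congrArg Matrix.trace h
    rw [add_mul, one_mul, mul_add, mul_one, Matrix.trace_add, Matrix.trace_add, Matrix.trace_add,
      Matrix.trace_one, hd.trace_eq_zero hB2 hes, hd.trace_eq_zero hB1 hbs,
      show b * e = ((B1 * B2 : GL (Fin 4) F) : Matrix (Fin 4) (Fin 4) F) from rfl,
      hd.trace_eq_zero (mul_mem hB1 hB2) hbes, Matrix.trace_zero, Fintype.card_fin] at ht
    norm_num at ht
    exact mul_ne_zero hd.two hd.two (by linear_combination ht)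
  obtain ⟨j0, v0, hv0, hv0ne⟩ : ∃ j v, v = ((1 + b) * (1 + e)) *ᵥ Pi.single j 1 ∧ v ≠ 0 := by
    by_contra hcon
    push Not at hcon
    refine hnz (Matrix.ext fun r j => ?_)
    have := congrFun (hcon j _ rfl) r
    simpa using this
  have hb0 : b *ᵥ v0 = v0 := by
    rw [hv0, Matrix.mulVec_mulVec, ← mul_assoc, show b * (1 + b) = 1 + b by rw [mul_add, mul_one, hbb, add_comm]]
  have he0 : e *ᵥ v0 = v0 := by
    rw [hv0, Matrix.mulVec_mulVec, ← mul_assoc,
      show e * (1 + b) = (1 + b) * e by rw [mul_add, add_mul, mul_one, one_mul, heb], mul_assoc,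
      show e * (1 + e) = 1 + e by rw [mul_add, mul_one, hee, add_comm]]
  let col : Fin 4 → Fin 4 → F := ![v0, a *ᵥ v0, c *ᵥ v0, (a * c) *ᵥ v0]
  let Pm : Matrix (Fin 4) (Fin 4) F := Matrix.of fun r k => col k r
  have hrel : ∀ (M : Matrix (Fin 4) (Fin 4) F) (k r : Fin 4), (M * Pm) r k = (M *ᵥ col k) r :=
    fun _ _ _ => rfl
  have R1 : a * Pm = Pm * sA1 := by
    ext r k
    rw [hrel]
    fin_cases k <;> simp [Matrix.mul_apply, Fin.sum_univ_four, Pm, col, sA1, Matrix.mulVec_mulVec, haa, ← mul_assoc]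
  have R3 : c * Pm = Pm * sA2 := by
    ext r k
    rw [hrel]
    fin_cases k <;> simp [Matrix.mul_apply, Fin.sum_univ_four, Pm, col, sA2, Matrix.mulVec_mulVec, hcc, hca, ← mul_assoc,
      show a * c * a = c by rw [mul_assoc, hca, ← mul_assoc, haa, one_mul],
      show c * a * c = a by rw [hca, mul_assoc, hcc, mul_one],
      show a * c * c = a by rw [mul_assoc, hcc, mul_one]]
  have hba0 : b *ᵥ (a *ᵥ v0) = -(a *ᵥ v0) := by
    rw [Matrix.mulVec_mulVec, hba, Matrix.neg_mulVec, ← Matrix.mulVec_mulVec, hb0]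
  have hbc0 : b *ᵥ (c *ᵥ v0) = c *ᵥ v0 := by
    rw [Matrix.mulVec_mulVec, hcb, ← Matrix.mulVec_mulVec, hb0]
  have hbac0 : b *ᵥ ((a * c) *ᵥ v0) = -((a * c) *ᵥ v0) := by
    rw [← Matrix.mulVec_mulVec v0 a c, Matrix.mulVec_mulVec (c *ᵥ v0), hba, Matrix.neg_mulVec,
      ← Matrix.mulVec_mulVec, hbc0]
  have hea0 : e *ᵥ (a *ᵥ v0) = a *ᵥ v0 := by
    rw [Matrix.mulVec_mulVec, hea, ← Matrix.mulVec_mulVec, he0]
  have hec0 : e *ᵥ (c *ᵥ v0) = -(c *ᵥ v0) := by
    rw [Matrix.mulVec_mulVec, hec, Matrix.neg_mulVec, ← Matrix.mulVec_mulVec, he0]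
  have heac0 : e *ᵥ ((a * c) *ᵥ v0) = -((a * c) *ᵥ v0) := by
    rw [← Matrix.mulVec_mulVec v0 a c, Matrix.mulVec_mulVec (c *ᵥ v0), hea, ← Matrix.mulVec_mulVec,
      hec0, Matrix.mulVec_neg]
  have R2 : b * Pm = Pm * sB1 := by
    ext r k
    rw [hrel]
    fin_cases k <;> simp [Matrix.mul_apply, Fin.sum_univ_four, Pm, col, sB1, hb0, hba0, hbc0, hbac0, -Matrix.mulVec_mulVec]
  have R4 : e * Pm = Pm * sB2 := by
    ext r k
    rw [hrel]
    fin_cases k <;> simp [Matrix.mul_apply, Fin.sum_univ_four, Pm, col, sB2, he0, hea0, hec0, heac0, -Matrix.mulVec_mulVec]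
  have hker : ∀ w, Pm *ᵥ w = 0 → w 0 = 0 := by
    intro w hw
    have h1 : Pm *ᵥ (((1 + sB1) * (1 + sB2)) *ᵥ w) = 0 := by
      rw [Matrix.mulVec_mulVec, ← mul_assoc,
        show Pm * (1 + sB1) = (1 + b) * Pm by rw [mul_add, add_mul, mul_one, one_mul, R2], mul_assoc,
        show Pm * (1 + sB2) = (1 + e) * Pm by rw [mul_add, add_mul, mul_one, one_mul, R4],
        ← mul_assoc, ← Matrix.mulVec_mulVec, hw, Matrix.mulVec_zero]
    have h2 : ((1 + sB1) * (1 + sB2)) *ᵥ w = (4 * w 0) • (Pi.single 0 1 : Fin 4 → F) := by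
      ext k
      fin_cases k <;> simp [Matrix.mulVec, dotProduct, Matrix.mul_apply, Fin.sum_univ_four, sB1, sB2,
        Matrix.one_apply] <;> first | ring1 | (left; norm_num)
    rw [h2, Matrix.mulVec_smul] at h1
    have h3 : Pm *ᵥ (Pi.single 0 1 : Fin 4 → F) = v0 := by
      ext r; simp [Pm, col, Matrix.mulVec_single_one]
    rw [h3] at h1
    rcases smul_eq_zero.1 h1 with h | h
    · exact (mul_eq_zero.1 h).resolve_left (by
        rw [show (4 : F) = 2 * 2 by norm_num]; exact mul_ne_zero hd.two hd.two)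
    · exact absurd h hv0ne
  have hdet : Pm.det ≠ 0 := by
    intro h
    obtain ⟨w, hw0, hw⟩ := Matrix.exists_mulVec_eq_zero_iff.2 h
    have hT : ∀ M S : Matrix (Fin 4) (Fin 4) F, M * Pm = Pm * S → ∀ u, Pm *ᵥ u = 0 → Pm *ᵥ (S *ᵥ u) = 0 :=
      fun M S hMS u hu => by
        rw [Matrix.mulVec_mulVec, ← hMS, ← Matrix.mulVec_mulVec, hu, Matrix.mulVec_zero]
    have e1 := hker _ (hT a sA1 R1 w hw)
    have e2 := hker _ (hT c sA2 R3 w hw)
    have e3 := hker _ (hT a sA1 R1 _ (hT c sA2 R3 w hw))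
    simp [Matrix.mulVec, dotProduct, Fin.sum_univ_four, sA1, sA2] at e1 e2 e3
    exact hw0 (funext fun k => by fin_cases k <;> first | exact hker w hw | exact e1 | exact e2 | exact e3)
  obtain ⟨P, hP⟩ : ∃ P : GL (Fin 4) F, (P : Matrix (Fin 4) (Fin 4) F) = Pm :=
    ⟨Matrix.GeneralLinearGroup.mkOfDetNeZero Pm hdet, rfl⟩
  refine ⟨P, ⟨⟨A1, hA1, by rw [hP]; exact R1⟩, ⟨B1, hB1, by rw [hP]; exact R2⟩,
    ⟨A2, hA2, by rw [hP]; exact R3⟩, ⟨B2, hB2, by rw [hP]; exact R4⟩, fun K hKs hK g hg => ?_⟩⟩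
  have kA1 : A1 ∈ K := hK A1 hA1 sA1 (by simp) (by rw [hP]; exact R1)
  have kB1 : B1 ∈ K := hK B1 hB1 sB1 (by simp) (by rw [hP]; exact R2)
  have kA2 : A2 ∈ K := hK A2 hA2 sA2 (by simp) (by rw [hP]; exact R3)
  have kB2 : B2 ∈ K := hK B2 hB2 sB2 (by simp) (by rw [hP]; exact R4)
  obtain ⟨u, hu, huA, huB⟩ := exists_adjust hd hA1 hB1 hg hab1
  have huR : u ∈ R ∧ u ∈ K := by
    rcases hu with h | h | h | h <;> rw [h]
    exacts [⟨one_mem _, one_mem _⟩, ⟨hA1, kA1⟩, ⟨hB1, kB1⟩, ⟨mul_mem hA1 hB1, mul_mem kA1 kB1⟩]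
  obtain ⟨v, hv, hvA, hvB⟩ := exists_adjust hd hA2 hB2 (mul_mem hg huR.1) hab2
  have hvR : v ∈ R ∧ v ∈ K := by
    rcases hv with h | h | h | h <;> rw [h]
    exacts [⟨one_mem _, one_mem _⟩, ⟨hA2, kA2⟩, ⟨hB2, kB2⟩, ⟨mul_mem hA2 hB2, mul_mem kA2 kB2⟩]
  have hv1 : Commute v A1 ∧ Commute v B1 := by
    rcases hv with h | h | h | h <;> rw [h]
    exacts [⟨Commute.one_left _, Commute.one_left _⟩, ⟨cA2A1, cA2B1⟩, ⟨cB2A1, cB2B1⟩,
      ⟨cA2A1.mul_left cB2A1, cA2B1.mul_left cB2B1⟩]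
  set z := g * u * v with hz
  have hzA : Commute z A1 := huA.mul_left hv1.1
  have hzB : Commute z B1 := huB.mul_left hv1.2
  have hzs : IsScalar z := by
    set M := ((P⁻¹ : GL (Fin 4) F) : Matrix (Fin 4) (Fin 4) F) * (z : Matrix (Fin 4) (Fin 4) F) * Pm with hM
    have hPi : ((P⁻¹ : GL (Fin 4) F) : Matrix (Fin 4) (Fin 4) F) * Pm = 1 := by
      rw [← hP, ← Units.val_mul, inv_mul_cancel, Units.val_one]
    have hPi' : Pm * ((P⁻¹ : GL (Fin 4) F) : Matrix (Fin 4) (Fin 4) F) = 1 := mul_eq_one_comm.1 hPi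
    have hc : ∀ (A : GL (Fin 4) F) (S : Matrix (Fin 4) (Fin 4) F), Commute z A →
        (A : Matrix (Fin 4) (Fin 4) F) * Pm = Pm * S → M * S = S * M := by
      intro A S hzA hAS
      have hS : S = ((P⁻¹ : GL (Fin 4) F) : Matrix (Fin 4) (Fin 4) F) * ((A : Matrix (Fin 4) (Fin 4) F) * Pm) := by
        rw [hAS, ← mul_assoc, hPi, one_mul]
      rw [hM, hS]
      simp only [mul_assoc]
      rw [← mul_assoc Pm, hPi', one_mul, ← mul_assoc Pm, hPi', one_mul, ← mul_assoc (z : Matrix (Fin 4) (Fin 4) F),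
        show (z : Matrix (Fin 4) (Fin 4) F) * A = A * z from congrArg Units.val hzA.eq, mul_assoc]
    have h := std_commutant hd.two M (hc A1 sA1 hzA R1) (hc B1 sB1 hzB R2) (hc A2 sA2 hvA R3) (hc B2 sB2 hvB R4)
    refine ⟨M 0 0, ?_⟩
    calc (z : Matrix (Fin 4) (Fin 4) F) = Pm * M * ((P⁻¹ : GL (Fin 4) F) : Matrix (Fin 4) (Fin 4) F) := by
          rw [hM, mul_assoc, mul_assoc, hPi', mul_one, ← mul_assoc, hPi', one_mul]
      _ = _ := by rw [h, Matrix.mul_smul, mul_one, Matrix.smul_mul, hPi']; simp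
  have hzK : z ∈ K := hKs z (mul_mem (mul_mem hg huR.1) hvR.1) hzs
  have : g = z * v⁻¹ * u⁻¹ := by rw [hz]; group
  rw [this]
  exact mul_mem (mul_mem hzK (inv_mem hvR.2)) (inv_mem huR.2)

variable {P : GL (Fin 4) F} (hP : Frame R P)
include hP

omit hd in
theorem Frame.smul {t : F} {P' : GL (Fin 4) F}
    (h : (P' : Matrix (Fin 4) (Fin 4) F) = t • (P : Matrix (Fin 4) (Fin 4) F)) : Frame R P' := by
  have ht : t ≠ 0 := by rintro rfl; exact P'.ne_zero (by rw [h, zero_smul])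
  have hiff : ∀ (g : GL (Fin 4) F) (s : Matrix (Fin 4) (Fin 4) F),
      ((g : Matrix (Fin 4) (Fin 4) F) * P' = P' * s) ↔ ((g : Matrix (Fin 4) (Fin 4) F) * P = P * s) := by
    intro g s
    rw [h, Matrix.mul_smul, Matrix.smul_mul]
    exact ⟨fun e => smul_right_injective _ ht e, fun e => by rw [e]⟩
  exact ⟨by simp only [hiff]; exact hP.a1, by simp only [hiff]; exact hP.b1, by simp only [hiff]; exact hP.a2,
    by simp only [hiff]; exact hP.b2, by simp only [hiff]; exact hP.gen⟩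

omit hd in
/-- The subgroup carried by `P`. -/
theorem pull_mul {M N : Matrix (Fin 4) (Fin 4) F} (hM : ∃ g ∈ R, (g : Matrix (Fin 4) (Fin 4) F) * P = P * M)
    (hN : ∃ g ∈ R, (g : Matrix (Fin 4) (Fin 4) F) * P = P * N) :
    ∃ g ∈ R, (g : Matrix (Fin 4) (Fin 4) F) * P = P * (M * N) := by
  obtain ⟨g, hg, hgM⟩ := hM
  obtain ⟨h, hh, hhN⟩ := hN
  exact ⟨g * h, mul_mem hg hh, by rw [Units.val_mul, mul_assoc, hhN, ← mul_assoc, hgM, mul_assoc]⟩

theorem pull_smul {M : Matrix (Fin 4) (Fin 4) F} (hM : ∃ g ∈ R, (g : Matrix (Fin 4) (Fin 4) F) * P = P * M)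
    (k : ℕ) : ∃ g ∈ R, (g : Matrix (Fin 4) (Fin 4) F) * P = P * (i ^ k • M) := by
  obtain ⟨t, ht⟩ := exists_scalar hd.i_ne_zero
  obtain ⟨g, hg, hgM⟩ := hM
  exact ⟨t ^ k * g, mul_mem (pow_mem (hd.imem t ht) k) hg, by
    rw [Units.val_mul, Units.val_pow_eq_pow_val, ht, smul_pow, one_pow, Matrix.smul_mul, one_mul, Matrix.smul_mul,
      hgM, Matrix.mul_smul]⟩

theorem mem_normalizer_of_intertwine {Y : GL (Fin 4) F}
    (h : ∀ s ∈ ({sA1, sB1, sA2, sB2} : Set (Matrix (Fin 4) (Fin 4) F)),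
      ∃ M, (∃ g ∈ R, (g : Matrix (Fin 4) (Fin 4) F) * P = P * M) ∧ (Y : Matrix (Fin 4) (Fin 4) F) * s = M * Y) :
    P * Y * P⁻¹ ∈ Cfsg.Geo.subgroupNormalizer R := by
  haveI : Finite R := Nat.finite_of_card_ne_zero (by rw [hd.card]; norm_num)
  set y := P * Y * P⁻¹ with hy
  have hle : R ≤ R.comap (MulAut.conj y).toMonoidHom := by
    refine hP.gen _ (fun g hg hs => ?_) fun g hg s hs hgs => ?_
    · show y * g * y⁻¹ ∈ R
      rwa [← (hs.commute y).eq, mul_inv_cancel_right]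
    · obtain ⟨M, ⟨g', hg', hgM⟩, hYs⟩ := h s hs
      show y * g * y⁻¹ ∈ R
      have e : y * g = g' * y := by
        have e1 : (P * Y) * (P⁻¹ * g * P) = g' * (P * Y) := by
          refine Units.ext ?_
          simp only [Units.val_mul]
          rw [mul_assoc _ (g : Matrix (Fin 4) (Fin 4) F), hgs, ← mul_assoc _ (P : Matrix (Fin 4) (Fin 4) F),
            ← Units.val_mul P⁻¹, inv_mul_cancel, Units.val_one, one_mul, mul_assoc, hYs, ← mul_assoc, ← hgM, mul_assoc]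
        calc y * g = (P * Y) * (P⁻¹ * g * P) * P⁻¹ := by rw [hy]; group
          _ = _ := by rw [e1, hy]; group
      rw [e, mul_inv_cancel_right]
      exact hg'
  refine Subgroup.mem_normalizer_iff.2 fun g => ⟨fun hg => hle hg, fun hg => ?_⟩
  let f : R → R := fun a => ⟨y * a.1 * y⁻¹, hle a.2⟩
  have hf : Function.Injective f := fun a b hab =>
    Subtype.ext (mul_left_cancel (mul_right_cancel (congrArg Subtype.val hab)))
  obtain ⟨a, ha⟩ := (Finite.injective_iff_surjective.1 hf) ⟨_, hg⟩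
  have : a.1 = g := mul_left_cancel (mul_right_cancel (congrArg Subtype.val ha))
  exact this ▸ a.2

theorem scalar_mul_mem_normalizer {y t : GL (Fin 4) F} (ht : IsScalar t)
    (hy : y ∈ Cfsg.Geo.subgroupNormalizer R) : t * y ∈ Cfsg.Geo.subgroupNormalizer R := by
  refine mul_mem (Subgroup.mem_normalizer_iff.2 fun g => ?_) hy
  rw [(ht.commute g).eq, mul_inv_cancel_right]

theorem target_sB2 {Y : GL (Fin 4) F} (hY : (Y : Matrix (Fin 4) (Fin 4) F) = sB2) :
    P * Y * P⁻¹ ∈ Cfsg.Geo.subgroupNormalizer R := by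
  refine mem_normalizer_of_intertwine hd hP fun s hs => ?_
  simp only [Set.mem_insert_iff, Set.mem_singleton_iff] at hs
  rcases hs with rfl | rfl | rfl | rfl
  · exact ⟨sA1, hP.a1, by rw [hY]; simp [sA1, sB2]⟩
  · exact ⟨sB1, hP.b1, by rw [hY]; simp [sB1, sB2]⟩
  · exact ⟨i ^ 2 • sA2, pull_smul hd hP hP.a2 2, by rw [hY, pow_two, hd.i_sq]; simp [sA2, sB2]⟩
  · exact ⟨sB2, hP.b2, by rw [hY]⟩

theorem target_cz {Y : GL (Fin 4) F} (hY : (Y : Matrix (Fin 4) (Fin 4) F) = cz ∨ (Y : Matrix (Fin 4) (Fin 4) F) = -cz) :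
    P * Y * P⁻¹ ∈ Cfsg.Geo.subgroupNormalizer R := by
  refine mem_normalizer_of_intertwine hd hP fun s hs => ?_
  simp only [Set.mem_insert_iff, Set.mem_singleton_iff] at hs
  rcases hs with rfl | rfl | rfl | rfl
  · exact ⟨sA1 * sB2, pull_mul hP hP.a1 hP.b2, by rcases hY with h | h <;> rw [h] <;> simp [sA1, sB2, cz]⟩
  · exact ⟨sB1, hP.b1, by rcases hY with h | h <;> rw [h] <;> simp [sB1, cz]⟩
  · exact ⟨sB1 * sA2, pull_mul hP hP.b1 hP.a2, by rcases hY with h | h <;> rw [h] <;> simp [sB1, sA2, cz]⟩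
  · exact ⟨sB2, hP.b2, by rcases hY with h | h <;> rw [h] <;> simp [sB2, cz]⟩

theorem target_y31 {Y : GL (Fin 4) F} (hY : (Y : Matrix (Fin 4) (Fin 4) F) = y31 i) :
    P * Y * P⁻¹ ∈ Cfsg.Geo.subgroupNormalizer R := by
  have h2 := hd.two
  have hi := hd.i_sq
  refine mem_normalizer_of_intertwine hd hP fun s hs => ?_
  simp only [Set.mem_insert_iff, Set.mem_singleton_iff] at hs
  rcases hs with rfl | rfl | rfl | rfl
  · refine ⟨i ^ 1 • (sA1 * sB1), pull_smul hd hP (pull_mul hP hP.a1 hP.b1) 1, ?_⟩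
    rw [hY]; ext a b
    fin_cases a <;> fin_cases b <;> simp [Matrix.mul_apply, Fin.sum_univ_four, y31, sA1, sB1] <;> grind
  · refine ⟨sA1, hP.a1, ?_⟩
    rw [hY]; ext a b
    fin_cases a <;> fin_cases b <;> simp [Matrix.mul_apply, Fin.sum_univ_four, y31, sA1, sB1] <;> grind
  · refine ⟨sA2, hP.a2, ?_⟩
    rw [hY]; ext a b
    fin_cases a <;> fin_cases b <;> simp [Matrix.mul_apply, Fin.sum_univ_four, y31, sA2] <;> grind
  · refine ⟨sB2, hP.b2, ?_⟩
    rw [hY]; ext a b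
    fin_cases a <;> fin_cases b <;> simp [Matrix.mul_apply, Fin.sum_univ_four, y31, sB2] <;> grind

theorem target_y32 {Y : GL (Fin 4) F} (hY : (Y : Matrix (Fin 4) (Fin 4) F) = y32 i) :
    P * Y * P⁻¹ ∈ Cfsg.Geo.subgroupNormalizer R := by
  have h2 := hd.two
  have hi := hd.i_sq
  refine mem_normalizer_of_intertwine hd hP fun s hs => ?_
  simp only [Set.mem_insert_iff, Set.mem_singleton_iff] at hs
  rcases hs with rfl | rfl | rfl | rfl
  · refine ⟨i ^ 1 • (sA1 * sB1), pull_smul hd hP (pull_mul hP hP.a1 hP.b1) 1, ?_⟩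
    rw [hY]; ext a b
    fin_cases a <;> fin_cases b <;> simp [Matrix.mul_apply, Fin.sum_univ_four, y32, sA1, sB1] <;> grind
  · refine ⟨sA1, hP.a1, ?_⟩
    rw [hY]; ext a b
    fin_cases a <;> fin_cases b <;> simp [Matrix.mul_apply, Fin.sum_univ_four, y32, sA1, sB1] <;> grind
  · refine ⟨i ^ 1 • (sA2 * sB2), pull_smul hd hP (pull_mul hP hP.a2 hP.b2) 1, ?_⟩
    rw [hY]; ext a b
    fin_cases a <;> fin_cases b <;> simp [Matrix.mul_apply, Fin.sum_univ_four, y32, sA2, sB2] <;> grind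
  · refine ⟨sA2, hP.a2, ?_⟩
    rw [hY]; ext a b
    fin_cases a <;> fin_cases b <;> simp [Matrix.mul_apply, Fin.sum_univ_four, y32, sA2, sB2] <;> grind

theorem target_y5 {Y : GL (Fin 4) F} (hY : (Y : Matrix (Fin 4) (Fin 4) F) = y5 i) :
    P * Y * P⁻¹ ∈ Cfsg.Geo.subgroupNormalizer R := by
  have h2 := hd.two
  have hi := hd.i_sq
  refine mem_normalizer_of_intertwine hd hP fun s hs => ?_
  simp only [Set.mem_insert_iff, Set.mem_singleton_iff] at hs
  rcases hs with rfl | rfl | rfl | rfl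
  · refine ⟨sA1 * sA2, pull_mul hP hP.a1 hP.a2, ?_⟩
    rw [hY]; ext a b
    fin_cases a <;> fin_cases b <;> simp [Matrix.mul_apply, Fin.sum_univ_four, y5, sA1, sA2] <;> grind
  · refine ⟨i ^ 2 • sB2, pull_smul hd hP hP.b2 2, ?_⟩
    rw [hY]; ext a b
    fin_cases a <;> fin_cases b <;> simp [Matrix.mul_apply, Fin.sum_univ_four, y5, sB1, sB2] <;> grind
  · refine ⟨i ^ 1 • (sA1 * sB1 * sB2), pull_smul hd hP (pull_mul hP (pull_mul hP hP.a1 hP.b1) hP.b2) 1, ?_⟩
    rw [hY]; ext a b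
    fin_cases a <;> fin_cases b <;> simp [Matrix.mul_apply, Fin.sum_univ_four, y5, sA1, sA2, sB1, sB2] <;> grind
  · refine ⟨sA1, hP.a1, ?_⟩
    rw [hY]; ext a b
    fin_cases a <;> fin_cases b <;> simp [Matrix.mul_apply, Fin.sum_univ_four, y5, sA1, sB2] <;> grind

end Cfsg.Agent.H73.Pauli
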