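import Mathlib

/-!
# Similarity of endomorphisms killed by products of coprime irreducible polynomials
-/

set_option autoImplicit false
set_option linter.style.haveILetI false

namespace Cfsg.Agent.H73.Pauli

open Polynomial Module

variable {F : Type*} [Field F] {V W : Type*} [AddCommGroup V] [Module F V] [AddCommGroup W] [Module F W]

/-- Two endomorphisms are similar. -/
def Sim (T : Module.End F V) (T' : Module.End F W) : Prop :=
  ∃ e : V ≃ₗ[F] W, ∀ v, e (T v) = T' (e v)

/-- The structure of a module over the residue field. -/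
noncomputable def rootHom (q : F[X]) (T : Module.End F V) (h : aeval T q = 0) :
    AdjoinRoot q →ₐ[F] Module.End F V :=
  Ideal.Quotient.liftₐ (Ideal.span {q}) (aeval T) fun a ha => by
    obtain ⟨b, rfl⟩ := Ideal.mem_span_singleton'.1 ha
    rw [map_mul, h, mul_zero]

theorem rootHom_root (q : F[X]) (T : Module.End F V) (h : aeval T q = 0) :
    rootHom q T h (AdjoinRoot.root q) = T := by
  show aeval T (X : F[X]) = T
  rw [aeval_X]

theorem sim_of_irreducible [FiniteDimensional F V] [FiniteDimensional F W] {q : F[X]} (hq : Irreducible q)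
    (T : Module.End F V) (T' : Module.End F W) (hT : aeval T q = 0) (hT' : aeval T' q = 0)
    (hd : finrank F V = finrank F W) : Sim T T' := by
  haveI : Fact (Irreducible q) := ⟨hq⟩
  letI : Module (AdjoinRoot q) V := Module.compHom V (rootHom q T hT).toRingHom
  letI : Module (AdjoinRoot q) W := Module.compHom W (rootHom q T' hT').toRingHom
  haveI : IsScalarTower F (AdjoinRoot q) V := ⟨fun a b v => by
    show rootHom q T hT (a • b) v = a • rootHom q T hT b v
    rw [map_smul, LinearMap.smul_apply]⟩
  haveI : IsScalarTower F (AdjoinRoot q) W := ⟨fun a b v => by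
    show rootHom q T' hT' (a • b) v = a • rootHom q T' hT' b v
    rw [map_smul, LinearMap.smul_apply]⟩
  haveI : Module.Finite F (AdjoinRoot q) := (AdjoinRoot.powerBasis hq.ne_zero).finite
  haveI : Module.Finite (AdjoinRoot q) V := Module.Finite.of_restrictScalars_finite F (AdjoinRoot q) V
  haveI : Module.Finite (AdjoinRoot q) W := Module.Finite.of_restrictScalars_finite F (AdjoinRoot q) W
  have hfr : finrank (AdjoinRoot q) V = finrank (AdjoinRoot q) W := by
    refine Nat.eq_of_mul_eq_mul_left (Module.finrank_pos (R := F) (M := AdjoinRoot q)) ?_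
    rw [Module.finrank_mul_finrank, Module.finrank_mul_finrank, hd]
  let e : V ≃ₗ[AdjoinRoot q] W := LinearEquiv.ofFinrankEq V W hfr
  refine ⟨e.restrictScalars F, fun v => ?_⟩
  have h1 : T v = (AdjoinRoot.root q) • v := (LinearMap.congr_fun (rootHom_root q T hT) v).symm
  have h2 : T' (e v) = (AdjoinRoot.root q) • e v := (LinearMap.congr_fun (rootHom_root q T' hT') (e v)).symm
  show e (T v) = T' (e v)
  rw [h1, h2, map_smul]

/-- The restriction to a kernel. -/
noncomputable def kerRes (T : Module.End F V) (f : F[X]) :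
    Module.End F (LinearMap.ker (aeval T f)) :=
  T.restrict (p := LinearMap.ker (aeval T f)) (q := LinearMap.ker (aeval T f)) fun v hv => by
    rw [LinearMap.mem_ker] at hv ⊢
    have h := congrArg (aeval T) (mul_comm f X)
    simp only [map_mul, aeval_X] at h
    rw [← Module.End.mul_apply, h, Module.End.mul_apply, hv, map_zero]

theorem kerRes_apply (T : Module.End F V) (f : F[X]) (v : LinearMap.ker (aeval T f)) :
    (kerRes T f v : V) = T v := rfl

theorem aeval_kerRes (T : Module.End F V) (f g : F[X]) :
    ∀ v : LinearMap.ker (aeval T f), (aeval (kerRes T f) g v : V) = aeval T g v := by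
  induction g using Polynomial.induction_on' with
  | add a b ha hb => intro v; simp [map_add, ha v, hb v]
  | monomial n a =>
    intro v
    simp only [aeval_monomial, Module.algebraMap_end_eq_smul_id, Module.End.mul_apply,
      LinearMap.smul_apply, LinearMap.id_apply, SetLike.val_smul]
    congr 1
    induction n generalizing v with
    | zero => rfl
    | succ n ih => rw [pow_succ', pow_succ', Module.End.mul_apply, Module.End.mul_apply, kerRes_apply, ih]

theorem aeval_kerRes_self (T : Module.End F V) (f : F[X]) : aeval (kerRes T f) f = 0 :=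
  LinearMap.ext fun v => Subtype.ext (by
    rw [aeval_kerRes]; exact v.2)

theorem finrank_ker_kerRes (T : Module.End F V) {f g : F[X]} (h : g ∣ f) :
    finrank F (LinearMap.ker (aeval (kerRes T f) g)) = finrank F (LinearMap.ker (aeval T g)) := by
  have hle : LinearMap.ker (aeval T g) ≤ LinearMap.ker (aeval T f) := by
    obtain ⟨c, rfl⟩ := h
    intro v hv
    rw [LinearMap.mem_ker] at hv ⊢
    rw [mul_comm, map_mul, Module.End.mul_apply, hv, map_zero]
  refine LinearEquiv.finrank_eq
    { toFun := fun v => ⟨v.1.1, by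
        have h1 := congrArg Subtype.val (LinearMap.mem_ker.1 v.2)
        rw [aeval_kerRes] at h1
        exact h1⟩
      map_add' := fun _ _ => rfl
      map_smul' := fun _ _ => rfl
      invFun := fun w => ⟨⟨w.1, hle w.2⟩, LinearMap.mem_ker.2 (Subtype.ext (by
        rw [aeval_kerRes]; exact w.2))⟩
      left_inv := fun _ => rfl
      right_inv := fun _ => rfl }

theorem isCompl_ker {f g : F[X]} (hfg : IsCoprime f g) (T : Module.End F V) (hT : aeval T (f * g) = 0) :
    IsCompl (LinearMap.ker (aeval T f)) (LinearMap.ker (aeval T g)) := by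
  refine ⟨Polynomial.disjoint_ker_aeval_of_isCoprime T hfg, codisjoint_iff.2 ?_⟩
  rw [Polynomial.sup_ker_aeval_eq_ker_aeval_mul_of_coprime T hfg, hT, LinearMap.ker_zero]

/-- Glue endomorphisms of complementary kernels. -/
theorem sim_of_coprime {f g : F[X]} (hfg : IsCoprime f g) (T : Module.End F V) (T' : Module.End F W)
    (hT : aeval T (f * g) = 0) (hT' : aeval T' (f * g) = 0)
    (h1 : Sim (kerRes T f) (kerRes T' f)) (h2 : Sim (kerRes T g) (kerRes T' g)) : Sim T T' := by
  obtain ⟨e1, he1⟩ := h1
  obtain ⟨e2, he2⟩ := h2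
  let P := Submodule.prodEquivOfIsCompl _ _ (isCompl_ker hfg T hT)
  let P' := Submodule.prodEquivOfIsCompl _ _ (isCompl_ker hfg T' hT')
  refine ⟨P.symm.trans ((e1.prodCongr e2).trans P'), fun v => ?_⟩
  obtain ⟨⟨a, b⟩, rfl⟩ := P.surjective v
  have h : T (P (a, b)) = P (kerRes T f a, kerRes T g b) := by
    simp only [P, Submodule.coe_prodEquivOfIsCompl', map_add, kerRes_apply]
  rw [h]
  simp only [LinearEquiv.trans_apply, LinearEquiv.symm_apply_apply, LinearEquiv.prodCongr_apply, he1, he2]
  simp only [P', Submodule.coe_prodEquivOfIsCompl', map_add, kerRes_apply]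

variable [FiniteDimensional F V] [FiniteDimensional F W]

theorem sim_two {f g : F[X]} (hf : Irreducible f) (hg : Irreducible g) (hfg : IsCoprime f g)
    (T : Module.End F V) (T' : Module.End F W) (hT : aeval T (f * g) = 0) (hT' : aeval T' (f * g) = 0)
    (hdf : finrank F (LinearMap.ker (aeval T f)) = finrank F (LinearMap.ker (aeval T' f)))
    (hdg : finrank F (LinearMap.ker (aeval T g)) = finrank F (LinearMap.ker (aeval T' g))) : Sim T T' :=
  sim_of_coprime hfg T T' hT hT'
    (sim_of_irreducible hf _ _ (aeval_kerRes_self T f) (aeval_kerRes_self T' f) hdf)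
    (sim_of_irreducible hg _ _ (aeval_kerRes_self T g) (aeval_kerRes_self T' g) hdg)

theorem sim_three {f g h : F[X]} (hf : Irreducible f) (hg : Irreducible g) (hh : Irreducible h)
    (hfgh : IsCoprime f (g * h)) (hgh : IsCoprime g h)
    (T : Module.End F V) (T' : Module.End F W) (hT : aeval T (f * (g * h)) = 0) (hT' : aeval T' (f * (g * h)) = 0)
    (hdf : finrank F (LinearMap.ker (aeval T f)) = finrank F (LinearMap.ker (aeval T' f)))
    (hdg : finrank F (LinearMap.ker (aeval T g)) = finrank F (LinearMap.ker (aeval T' g)))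
    (hdh : finrank F (LinearMap.ker (aeval T h)) = finrank F (LinearMap.ker (aeval T' h))) : Sim T T' := by
  refine sim_of_coprime hfgh T T' hT hT'
    (sim_of_irreducible hf _ _ (aeval_kerRes_self T f) (aeval_kerRes_self T' f) hdf)
    (sim_two hg hh hgh _ _ (aeval_kerRes_self T _) (aeval_kerRes_self T' _) ?_ ?_)
  · rw [finrank_ker_kerRes T (dvd_mul_right g h), finrank_ker_kerRes T' (dvd_mul_right g h), hdg]
  · rw [finrank_ker_kerRes T (dvd_mul_left h g), finrank_ker_kerRes T' (dvd_mul_left h g), hdh]

omit [FiniteDimensional F W] in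
theorem exists_det_irreducible [Finite F] [Nontrivial V] {q : F[X]} (hq : Irreducible q) (T : Module.End F V)
    (hT : aeval T q = 0) {d : F} (hd : d ≠ 0) :
    ∃ A : Module.End F V, (∀ v, A (T v) = T (A v)) ∧ LinearMap.det A = d := by
  classical
  haveI : Fact (Irreducible q) := ⟨hq⟩
  letI : Module (AdjoinRoot q) V := Module.compHom V (rootHom q T hT).toRingHom
  haveI : IsScalarTower F (AdjoinRoot q) V := ⟨fun a b v => by
    show rootHom q T hT (a • b) v = a • rootHom q T hT b v
    rw [map_smul, LinearMap.smul_apply]⟩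
  haveI : Module.Finite F (AdjoinRoot q) := (AdjoinRoot.powerBasis hq.ne_zero).finite
  haveI : Finite (AdjoinRoot q) := Module.finite_of_finite F
  haveI : Module.Finite (AdjoinRoot q) V := Module.Finite.of_restrictScalars_finite F (AdjoinRoot q) V
  obtain ⟨k, hk⟩ := FiniteField.norm_surjective F (AdjoinRoot q) d
  let b := Module.finBasis (AdjoinRoot q) V
  have hpos : 0 < finrank (AdjoinRoot q) V := Module.finrank_pos
  let D : Fin (finrank (AdjoinRoot q) V) → AdjoinRoot q := fun j => if j = ⟨0, hpos⟩ then k else 1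
  let f : V →ₗ[AdjoinRoot q] V := Matrix.toLin b b (Matrix.diagonal D)
  refine ⟨f.restrictScalars F, fun v => ?_, ?_⟩
  · have h1 : ∀ w : V, T w = (AdjoinRoot.root q) • w := fun w =>
      (LinearMap.congr_fun (rootHom_root q T hT) w).symm
    simp only [LinearMap.restrictScalars_apply, h1, map_smul]
  · rw [LinearMap.det_restrictScalars, LinearMap.det_toLin, Matrix.det_diagonal,
      Finset.prod_ite_eq' Finset.univ (⟨0, hpos⟩ : Fin (finrank (AdjoinRoot q) V)) (fun _ => k)]
    rw [if_pos (Finset.mem_univ _), hk]

omit [FiniteDimensional F W] in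
theorem exists_det [Finite F] {f g : F[X]} (hf : Irreducible f) (hfg : IsCoprime f g) (T : Module.End F V)
    (hT : aeval T (f * g) = 0) (hne : LinearMap.ker (aeval T f) ≠ ⊥) {d : F} (hd : d ≠ 0) :
    ∃ A : Module.End F V, (∀ v, A (T v) = T (A v)) ∧ (∀ v, aeval T f (A v - v) = 0) ∧ LinearMap.det A = d := by
  haveI : Nontrivial (LinearMap.ker (aeval T f)) := Submodule.nontrivial_iff_ne_bot.2 hne
  obtain ⟨B, hB, hBd⟩ := exists_det_irreducible hf _ (aeval_kerRes_self T f) hd
  let P := Submodule.prodEquivOfIsCompl _ _ (isCompl_ker hfg T hT)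
  refine ⟨P.toLinearMap ∘ₗ (B.prodMap LinearMap.id) ∘ₗ P.symm.toLinearMap, fun v => ?_, fun v => ?_, ?_⟩
  · obtain ⟨⟨a, b⟩, rfl⟩ := P.surjective v
    have h : T (P (a, b)) = P (kerRes T f a, kerRes T g b) := by
      simp only [P, Submodule.coe_prodEquivOfIsCompl', map_add, kerRes_apply]
    rw [h]
    simp only [LinearMap.comp_apply, LinearEquiv.coe_coe, LinearEquiv.symm_apply_apply,
      LinearMap.prodMap_apply, LinearMap.id_apply, hB]
    simp only [P, Submodule.coe_prodEquivOfIsCompl', map_add, kerRes_apply]
  · obtain ⟨⟨a, b⟩, rfl⟩ := P.surjective v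
    simp only [LinearMap.comp_apply, LinearEquiv.coe_coe, LinearEquiv.symm_apply_apply,
      LinearMap.prodMap_apply, LinearMap.id_apply]
    simp only [P, Submodule.coe_prodEquivOfIsCompl', add_sub_add_right_eq_sub]
    exact LinearMap.mem_ker.1 (sub_mem (B a).2 a.2)
  · rw [LinearMap.det_conj, LinearMap.det_prodMap, LinearMap.det_id, mul_one, hBd]

end Cfsg.Agent.H73.Pauli
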