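import Cfsg.Agent.H73.Pauli.Frame
import Cfsg.Agent.H73.Pauli.Sim

/-!
# Shared lemmas for the linear and the unitary case
-/

set_option autoImplicit false
set_option linter.style.haveILetI false

namespace Cfsg.Agent.H73.Pauli

open Polynomial Module
open scoped Matrix
open scoped MatrixGroups

variable {F : Type*} [Field F]

theorem det_eq_one_of_mem_specialLinear {x : GL (Fin 4) F} (hx : x ∈ Cfsg.Geo.specialLinear (Fin 4) F) :
    (x : Matrix (Fin 4) (Fin 4) F).det = 1 := by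
  rw [Cfsg.Geo.specialLinear, MonoidHom.mem_ker, ← Units.val_inj] at hx
  simpa using hx

theorem mem_specialLinear_of_det {x : GL (Fin 4) F} (hx : (x : Matrix (Fin 4) (Fin 4) F).det = 1) :
    x ∈ Cfsg.Geo.specialLinear (Fin 4) F := by
  rw [Cfsg.Geo.specialLinear, MonoidHom.mem_ker, ← Units.val_inj]
  simpa using hx

theorem IsScalar.conj {g : GL (Fin 4) F} (hg : IsScalar g) (h : GL (Fin 4) F) : h⁻¹ * g * h = g := by
  rw [mul_assoc, (hg.commute h).eq, inv_mul_cancel_left]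

theorem IsScalar.of_conj {g h : GL (Fin 4) F} (hg : IsScalar (h⁻¹ * g * h)) : IsScalar g := by
  have e : g = h⁻¹ * g * h := by
    have h1 := (hg.commute h⁻¹).eq
    calc g = h * (h⁻¹ * g * h) * h⁻¹ := by group
      _ = h * h⁻¹ * (h⁻¹ * g * h) := by rw [mul_assoc h, h1, ← mul_assoc]
      _ = _ := by rw [mul_inv_cancel, one_mul]
  rwa [← e] at hg

/-- A matrix as an element of `GL`. -/
theorem exists_gl {M N : Matrix (Fin 4) (Fin 4) F} (h : M * N = 1) :
    ∃ g : GL (Fin 4) F, (g : Matrix (Fin 4) (Fin 4) F) = M :=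
  ⟨⟨M, N, h, mul_eq_one_comm.1 h⟩, rfl⟩

/-- An element of prime order in a subgroup of the matrices of determinant one. -/
theorem exists_nonscalar_of_dvd [Finite F] {S : Subgroup (GL (Fin 4) F)}
    (hS : ∀ x ∈ S, (x : Matrix (Fin 4) (Fin 4) F).det = 1) {r : ℕ} [Fact r.Prime] (hr : r ≠ 2)
    (h : r ∣ Nat.card S) :
    ∃ x ∈ S, x ^ r = 1 ∧ ¬ IsScalar x := by
  obtain ⟨x, hx⟩ := exists_prime_orderOf_dvd_card' r h
  have hxr : (x : GL (Fin 4) F) ^ r = 1 := by
    rw [← hx, ← SubmonoidClass.coe_pow, pow_orderOf_eq_one]; rfl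
  refine ⟨x, x.2, hxr, ?_⟩
  rintro ⟨c, hc⟩
  have h4 : c ^ 4 = 1 := by simpa [hc, Matrix.det_smul] using hS _ x.2
  have hcr : c ^ r = 1 := by
    have h' := congrArg (fun g : GL (Fin 4) F => (g : Matrix (Fin 4) (Fin 4) F)) hxr
    simp only [Units.val_pow_eq_pow_val, hc, Units.val_one] at h'
    rw [_root_.smul_pow, one_pow] at h'
    exact scalar_inj (h'.trans (one_smul F _).symm)
  have hco : Nat.gcd 4 r = 1 :=
    (Nat.coprime_two_left.2 ((Fact.out : r.Prime).odd_of_ne_two hr)).pow_left 2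
  have hc1 : c = 1 := by
    rw [← orderOf_eq_one_iff]
    refine Nat.dvd_one.1 ?_
    rw [← hco]
    exact Nat.dvd_gcd (orderOf_dvd_of_pow_eq_one h4) (orderOf_dvd_of_pow_eq_one hcr)
  have hx1 : x = 1 := Subtype.ext (Units.ext (by rw [hc, hc1, one_smul]; rfl))
  rw [hx1, orderOf_one] at hx
  exact (Fact.out : r.Prime).one_lt.ne hx

theorem rank_conj_sub_le (x g : GL (Fin 4) F) (c : F) :
    (((g⁻¹ * x * g : GL (Fin 4) F) : Matrix (Fin 4) (Fin 4) F) - c • 1).rank ≤
      ((x : Matrix (Fin 4) (Fin 4) F) - c • 1).rank := by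
  have e : ((g⁻¹ * x * g : GL (Fin 4) F) : Matrix (Fin 4) (Fin 4) F) - c • 1 =
      ((g⁻¹ : GL (Fin 4) F) : Matrix (Fin 4) (Fin 4) F) * ((x : Matrix (Fin 4) (Fin 4) F) - c • 1) *
        (g : Matrix (Fin 4) (Fin 4) F) := by
    rw [mul_sub, sub_mul, Matrix.mul_smul, mul_one, Matrix.smul_mul, Units.inv_mul, Units.val_mul, Units.val_mul]
  rw [e]
  exact (Matrix.rank_mul_le_left _ _).trans (Matrix.rank_mul_le_right _ _)

variable {R : Subgroup (GL (Fin 4) F)} {i : F}

/-- A rank-one element is not conjugate into the normaliser. -/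
theorem no_conj_of_rank_one (hd : PauliData R i) {x : GL (Fin 4) F} {r : ℕ} (hr : Odd r)
    (hxr : IsScalar (x ^ r)) (hx : ¬ IsScalar x) (c : F)
    (hrk : ((x : Matrix (Fin 4) (Fin 4) F) - c • 1).rank ≤ 1) (g : GL (Fin 4) F) :
    g⁻¹ * x * g ∉ Cfsg.Geo.subgroupNormalizer R := fun h =>
  hx (scalar_of_rank_one hd h hr (by
    have := conj_pow (i := r) (a := g⁻¹) (b := x)
    rw [inv_inv] at this
    rw [this, hxr.conj]
    exact hxr) c ((rank_conj_sub_le x g c).trans hrk)).of_conj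

/-- The trace criterion for `r = 5`. -/
theorem no_conj_of_trace (hd : PauliData R i) {x : GL (Fin 4) F} (hx5 : IsScalar (x ^ 5)) (hx : ¬ IsScalar x)
    (ht : (x : Matrix (Fin 4) (Fin 4) F).trace * ((x⁻¹ : GL (Fin 4) F) : Matrix (Fin 4) (Fin 4) F).trace ≠ 1)
    (g : GL (Fin 4) F) : g⁻¹ * x * g ∉ Cfsg.Geo.subgroupNormalizer R := by
  intro h
  haveI : Fact (Nat.Prime 5) := ⟨Nat.prime_five⟩
  set y := g⁻¹ * x * g with hy
  have hy5 : IsScalar (y ^ 5) := by
    have := conj_pow (i := 5) (a := g⁻¹) (b := x)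
    rw [inv_inv] at this
    rw [hy, this, hx5.conj]
    exact hx5
  have h1 := card_centralizer_eq_traces hd h (by decide) hy5
  have h2 := card_centralizer_modEq hd h hy5
  obtain ⟨j, hj, hjc⟩ := card_centralizer hd y
  rw [hjc] at h1 h2
  obtain rfl | rfl : j = 0 ∨ j = 4 := by
    interval_cases j <;> first | exact Or.inl rfl | exact Or.inr rfl | exact absurd h2 (by decide)
  · refine ht (mul_left_cancel₀ (mul_ne_zero hd.two hd.two) ?_)
    have e1 : (y : Matrix (Fin 4) (Fin 4) F).trace = (x : Matrix (Fin 4) (Fin 4) F).trace := by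
      rw [hy, Units.val_mul, Units.val_mul, Matrix.trace_units_conj']
    have e2 : ((y⁻¹ : GL (Fin 4) F) : Matrix (Fin 4) (Fin 4) F).trace =
        ((x⁻¹ : GL (Fin 4) F) : Matrix (Fin 4) (Fin 4) F).trace := by
      rw [show y⁻¹ = g⁻¹ * x⁻¹ * g by rw [hy]; group, Units.val_mul, Units.val_mul, Matrix.trace_units_conj']
    rw [e1, e2] at h1
    push_cast at h1 ⊢
    linear_combination -h1
  · exact hx (scalar_of_card_centralizer hd (by rw [hjc]; norm_num)).of_conj

theorem no_conj_of_seven_le (hd : PauliData R i) {x : GL (Fin 4) F} {r : ℕ} [Fact r.Prime] (hr : 7 ≤ r)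
    (hxr : IsScalar (x ^ r)) (hx : ¬ IsScalar x) (g : GL (Fin 4) F) :
    g⁻¹ * x * g ∉ Cfsg.Geo.subgroupNormalizer R := fun h =>
  hx (scalar_of_seven_le hd h hr (by
    have := conj_pow (i := r) (a := g⁻¹) (b := x)
    rw [inv_inv] at this
    rw [this, hxr.conj]
    exact hxr)).of_conj

/-! ### The model elements -/

theorem sB2_pow : (sB2 : Matrix (Fin 4) (Fin 4) F) ^ 2 = 1 := by
  rw [pow_two]; ext a b
  fin_cases a <;> fin_cases b <;> simp [Matrix.mul_apply, Fin.sum_univ_four, sB2]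

theorem cz_pow : (cz : Matrix (Fin 4) (Fin 4) F) ^ 2 = 1 := by
  rw [pow_two]; ext a b
  fin_cases a <;> fin_cases b <;> simp [Matrix.mul_apply, Fin.sum_univ_four, cz]

theorem y31_facts {i : F} (hi : i * i = -1) (h2 : (2 : F) ≠ 0) :
    y31 i ^ 3 = (1 : Matrix (Fin 4) (Fin 4) F) ∧ y31 i ^ 2 + y31 i + 1 = 0 := by
  have h : y31 i ^ 2 + y31 i + 1 = 0 := by
    rw [pow_two]; ext a b
    fin_cases a <;> fin_cases b <;> simp [Matrix.mul_apply, Fin.sum_univ_four, y31] <;> grind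
  refine ⟨?_, h⟩
  have e : y31 i ^ 3 - 1 = (y31 i - 1) * (y31 i ^ 2 + y31 i + 1) := by noncomm_ring
  rwa [h, mul_zero, sub_eq_zero] at e

theorem y32_facts {i : F} (hi : i * i = -1) (h2 : (2 : F) ≠ 0) :
    y32 i ^ 3 = (1 : Matrix (Fin 4) (Fin 4) F) ∧ y32 i ^ 2 + y32 i + 1 ≠ 0 ∧ y32 i ≠ 1 := by
  have hsq : y32 i ^ 2 = !![i / 2, i / 2, i / 2, i / 2; -1 / 2, 1 / 2, -1 / 2, 1 / 2;
      -1 / 2, -1 / 2, 1 / 2, 1 / 2; -i / 2, i / 2, i / 2, -i / 2] := by
    rw [pow_two]; ext a b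
    fin_cases a <;> fin_cases b <;> simp [Matrix.mul_apply, Fin.sum_univ_four, y32] <;> grind
  refine ⟨?_, fun h => ?_, fun h => ?_⟩
  · rw [pow_succ, hsq]; ext a b
    fin_cases a <;> fin_cases b <;> simp [Matrix.mul_apply, Fin.sum_univ_four, y32] <;> grind
  · have h' := congrFun (congrFun h 0) 0
    rw [hsq] at h'
    simp [y32] at h'
    grind
  · have h' := congrFun (congrFun h 0) 1
    simp [y32] at h'
    grind

theorem y5_facts {i : F} (hi : i * i = -1) (h2 : (2 : F) ≠ 0) :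
    y5 i ^ 5 = (1 : Matrix (Fin 4) (Fin 4) F) ∧ y5 i ≠ 1 := by
  have hsq : y5 i ^ 2 = !![-1 / 2, -i / 2, i / 2, 1 / 2; 1 / 2, -i / 2, -i / 2, 1 / 2;
      1 / 2, -i / 2, i / 2, -1 / 2; -1 / 2, -i / 2, -i / 2, -1 / 2] := by
    rw [pow_two]; ext a b
    fin_cases a <;> fin_cases b <;> simp [Matrix.mul_apply, Fin.sum_univ_four, y5] <;> grind
  have h4 : y5 i ^ 4 = !![0, 0, (-1 - i) / 2, (-1 - i) / 2; (-1 - i) / 2, (-1 - i) / 2, 0, 0;
      0, 0, (-1 + i) / 2, (1 - i) / 2; (1 - i) / 2, (-1 + i) / 2, 0, 0] := by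
    rw [show y5 i ^ 4 = (y5 i ^ 2) ^ 2 by rw [← pow_mul], hsq, pow_two]; ext a b
    fin_cases a <;> fin_cases b <;> simp [Matrix.mul_apply, Fin.sum_univ_four] <;> grind
  refine ⟨?_, fun h => ?_⟩
  · rw [pow_succ, h4]; ext a b
    fin_cases a <;> fin_cases b <;> simp [Matrix.mul_apply, Fin.sum_univ_four, y5] <;> grind
  · have h' := congrFun (congrFun h 0) 0
    simp [y5] at h'

/-! ### Similarity of matrices -/

theorem aeval_toLin' (X : Matrix (Fin 4) (Fin 4) F) (q : F[X]) :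
    aeval (Matrix.toLin' X) q = Matrix.toLin' (aeval X q) :=
  aeval_algHom_apply (Matrix.toLinAlgEquiv' : Matrix (Fin 4) (Fin 4) F ≃ₐ[F] _).toAlgHom X q

theorem exists_conj_of_sim {X Y : GL (Fin 4) F}
    (h : Sim (Matrix.toLin' (X : Matrix (Fin 4) (Fin 4) F)) (Matrix.toLin' (Y : Matrix (Fin 4) (Fin 4) F))) :
    ∃ g : GL (Fin 4) F, g⁻¹ * X * g = Y := by
  obtain ⟨e, he⟩ := h
  obtain ⟨g, hg⟩ := exists_gl (M := LinearMap.toMatrix' e.symm.toLinearMap)
    (N := LinearMap.toMatrix' e.toLinearMap) (by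
      rw [← LinearMap.toMatrix'_comp, LinearEquiv.comp_coe, LinearEquiv.self_trans_symm]
      exact LinearMap.toMatrix'_id)
  refine ⟨g, ?_⟩
  rw [mul_assoc, inv_mul_eq_iff_eq_mul]
  refine Units.ext (Matrix.toLin'.injective ?_)
  rw [Units.val_mul, Units.val_mul, hg, Matrix.toLin'_mul, Matrix.toLin'_mul, Matrix.toLin'_toMatrix']
  refine LinearMap.ext fun v => e.injective ?_
  simp only [LinearMap.comp_apply, LinearEquiv.coe_coe, he, LinearEquiv.apply_symm_apply]

/-- The dimension of the fixed space. -/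
noncomputable def fixDim (X : Matrix (Fin 4) (Fin 4) F) : ℕ :=
  finrank F (LinearMap.ker (aeval (Matrix.toLin' X) (Polynomial.X - C 1 : F[X])))

theorem aeval_toLin'_eq_zero {X : Matrix (Fin 4) (Fin 4) F} {q : F[X]} (h : aeval X q = 0) :
    aeval (Matrix.toLin' X) q = 0 := by
  rw [aeval_toLin', h, map_zero]

theorem ker_aeval_eq_top {X : Matrix (Fin 4) (Fin 4) F} {q : F[X]} :
    LinearMap.ker (aeval (Matrix.toLin' X) q) = ⊤ ↔ aeval X q = 0 := by
  rw [LinearMap.ker_eq_top, aeval_toLin', LinearEquiv.map_eq_zero_iff]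

theorem finrank_ker_eq_four {X : Matrix (Fin 4) (Fin 4) F} {q : F[X]} :
    finrank F (LinearMap.ker (aeval (Matrix.toLin' X) q)) = 4 ↔ aeval X q = 0 := by
  rw [← ker_aeval_eq_top]
  refine ⟨fun h => Submodule.eq_top_of_finrank_eq (by rw [h]; simp), fun h => by rw [h]; simp⟩

theorem fixDim_eq_four {X : Matrix (Fin 4) (Fin 4) F} : fixDim X = 4 ↔ X = 1 := by
  rw [fixDim, finrank_ker_eq_four, map_sub, aeval_X, aeval_C, map_one, sub_eq_zero]

theorem fixDim_le (X : Matrix (Fin 4) (Fin 4) F) : fixDim X ≤ 4 := by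
  have := Submodule.finrank_le (LinearMap.ker (aeval (Matrix.toLin' X) (Polynomial.X - C 1 : F[X])))
  simpa [fixDim] using this

theorem fixDim_eq_of_diagonal [DecidableEq F] (d : Fin 4 → F) :
    fixDim (Matrix.diagonal d) = 4 - Fintype.card {k // d k - 1 ≠ 0} := by
  have h : aeval (Matrix.toLin' (Matrix.diagonal d)) (Polynomial.X - C 1 : F[X]) =
      (Matrix.diagonal fun k => d k - 1).mulVecLin := by
    rw [aeval_toLin', map_sub, aeval_X, aeval_C, map_one, ← Matrix.diagonal_one, Matrix.diagonal_sub]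
    rfl
  have h2 := LinearMap.finrank_range_add_finrank_ker (Matrix.diagonal fun k => d k - 1).mulVecLin
  rw [show finrank F (LinearMap.range (Matrix.diagonal fun k => d k - 1).mulVecLin) = _ from
    Matrix.rank_diagonal (fun k => d k - 1), Module.finrank_fin_fun] at h2
  rw [fixDim, h]
  omega

theorem fixDim_sB2 (h2 : (2 : F) ≠ 0) : fixDim (sB2 : Matrix (Fin 4) (Fin 4) F) = 2 := by
  classical
  have e : (sB2 : Matrix (Fin 4) (Fin 4) F) = Matrix.diagonal ![1, 1, -1, -1] := by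
    ext a b; fin_cases a <;> fin_cases b <;> simp [sB2]
  have hn : (-1 - 1 : F) ≠ 0 := fun h => h2 (by linear_combination -h)
  rw [e, fixDim_eq_of_diagonal, Fintype.card_subtype]
  simp [Finset.filter, Fin.univ_def, List.finRange_succ, hn]

theorem fixDim_cz (h2 : (2 : F) ≠ 0) :
    fixDim (cz : Matrix (Fin 4) (Fin 4) F) = 3 ∧ fixDim (-cz : Matrix (Fin 4) (Fin 4) F) = 1 := by
  classical
  have e : (cz : Matrix (Fin 4) (Fin 4) F) = Matrix.diagonal ![1, 1, 1, -1] := by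
    ext a b; fin_cases a <;> fin_cases b <;> simp [cz]
  have e' : (-cz : Matrix (Fin 4) (Fin 4) F) = Matrix.diagonal ![-1, -1, -1, 1] := by
    ext a b; fin_cases a <;> fin_cases b <;> simp [cz]
  have hn : (-1 - 1 : F) ≠ 0 := fun h => h2 (by linear_combination -h)
  rw [e', e, fixDim_eq_of_diagonal, fixDim_eq_of_diagonal, Fintype.card_subtype, Fintype.card_subtype]
  constructor <;> simp [Finset.filter, Fin.univ_def, List.finRange_succ, hn]

theorem orderOf_two_mod_three : orderOf ((2 : ℕ) : ZMod 3) = 2 := by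
  haveI : Fact (Nat.Prime 2) := ⟨Nat.prime_two⟩
  exact orderOf_eq_prime (by decide) (by decide)

theorem orderOf_two_three_mod_five :
    orderOf ((2 : ℕ) : ZMod 5) = 4 ∧ orderOf ((3 : ℕ) : ZMod 5) = 4 := by
  haveI : Fact (Nat.Prime 2) := ⟨Nat.prime_two⟩
  constructor <;> exact orderOf_eq_prime_pow (p := 2) (n := 1) (by decide) (by decide)

theorem natDegree_dvd_finrank {V : Type*} [AddCommGroup V] [Module F V] [FiniteDimensional F V] {q : F[X]}
    (hq : Irreducible q) (T : Module.End F V) (hT : aeval T q = 0) : q.natDegree ∣ finrank F V := by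
  haveI : Fact (Irreducible q) := ⟨hq⟩
  letI : Module (AdjoinRoot q) V := Module.compHom V (rootHom q T hT).toRingHom
  haveI : IsScalarTower F (AdjoinRoot q) V := ⟨fun a b v => by
    show rootHom q T hT (a • b) v = a • rootHom q T hT b v
    rw [map_smul, LinearMap.smul_apply]⟩
  rw [← Module.finrank_mul_finrank F (AdjoinRoot q) V, (AdjoinRoot.powerBasis hq.ne_zero).finrank,
    AdjoinRoot.powerBasis_dim]
  exact dvd_mul_right _ _

theorem natDegree_dvd_finrank_ker {q : F[X]} (hq : Irreducible q) (X : Matrix (Fin 4) (Fin 4) F) :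
    q.natDegree ∣ finrank F (LinearMap.ker (aeval (Matrix.toLin' X) q)) :=
  natDegree_dvd_finrank hq _ (aeval_kerRes_self _ q)

/-- A unipotent-free square root of a nonsquare scalar has determinant its square. -/
theorem det_of_sq_nonsquare [Finite F] {x : GL (Fin 4) F} {z : F} (hz : ¬ IsSquare z)
    (hx : (x : Matrix (Fin 4) (Fin 4) F) ^ 2 = z • 1) : (x : Matrix (Fin 4) (Fin 4) F).det = z * z := by
  have hz0 : z ≠ 0 := fun h => hz (h ▸ IsSquare.zero)
  have hirr : Irreducible (X ^ 2 - C z : F[X]) :=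
    X_pow_sub_C_irreducible_of_prime Nat.prime_two fun b hb => hz ⟨b, by rw [← hb, pow_two]⟩
  obtain ⟨Y, hY⟩ := exists_gl (F := F) (M := !![0, z, 0, 0; 1, 0, 0, 0; 0, 0, 0, z; 0, 0, 1, 0])
    (N := !![0, 1, 0, 0; z⁻¹, 0, 0, 0; 0, 0, 0, 1; 0, 0, z⁻¹, 0]) (by
      ext a b; fin_cases a <;> fin_cases b <;> simp [Matrix.mul_apply, Fin.sum_univ_four, hz0])
  have hY2 : (Y : Matrix (Fin 4) (Fin 4) F) ^ 2 = z • 1 := by
    rw [pow_two, hY]; ext a b
    fin_cases a <;> fin_cases b <;> simp [Matrix.mul_apply, Fin.sum_univ_four]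
  have hkill : ∀ M : Matrix (Fin 4) (Fin 4) F, M ^ 2 = z • 1 → aeval M (X ^ 2 - C z : F[X]) = 0 := fun M hM => by
    rw [map_sub, map_pow, aeval_X, aeval_C, hM, Algebra.algebraMap_eq_smul_one, sub_self]
  obtain ⟨g, hg⟩ := exists_conj_of_sim (X := x) (Y := Y) (sim_of_irreducible hirr _ _
    (aeval_toLin'_eq_zero (hkill _ hx)) (aeval_toLin'_eq_zero (hkill _ hY2)) rfl)
  have h := congrArg (fun a : GL (Fin 4) F => (a : Matrix (Fin 4) (Fin 4) F).det) hg
  simp only [Units.val_mul, Matrix.det_units_conj'] at h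
  rw [h, hY, Matrix.det_succ_row_zero]
  simp [Fin.sum_univ_succ, Matrix.det_fin_three, Fin.succAbove]

end Cfsg.Agent.H73.Pauli
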