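import Cfsg.Agent.H73.Pauli.Linear
import Cfsg.Agent.Unitary.Wall
import Cfsg.Agent.Unitary.AschAdjoint

/-!
# The unitary case
-/

set_option autoImplicit false
set_option linter.style.haveILetI false
set_option linter.unusedSectionVars false

namespace Cfsg.Agent.H73.Pauli

open Polynomial Module
open Cfsg.Agent.Unitary.Asch (hst hst_mul hst_one hst_hst hst_add hst_sub hst_smul hst_smul_one hst_apply)
open Cfsg.Agent.Unitary (frob)
open scoped Matrix
open scoped MatrixGroups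

variable {F : Type*} [Field F] [Fintype F] {p : ℕ} (hF : Fintype.card F = p ^ 2)
include hF

theorem hst_eq_one {g : GL (Fin 4) F} (hg : g ∈ Cfsg.GU 4 F p) :
    hst p (g : Matrix (Fin 4) (Fin 4) F) * (g : Matrix (Fin 4) (Fin 4) F) = 1 :=
  (Unitary.Asch.mem_GU_iff_hst hF).1 hg

theorem hst_eq_inv {g : GL (Fin 4) F} (hg : g ∈ Cfsg.GU 4 F p) :
    hst p (g : Matrix (Fin 4) (Fin 4) F) = ((g⁻¹ : GL (Fin 4) F) : Matrix (Fin 4) (Fin 4) F) :=
  (left_inv_eq_right_inv (hst_eq_one hF hg) (Units.mul_inv g))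

theorem det_hst (M : Matrix (Fin 4) (Fin 4) F) : (hst p M).det = M.det ^ p := by
  rw [Unitary.Asch.hst_eq hF, Matrix.det_transpose, ← RingHom.map_det]
  rfl

theorem det_norm {g : GL (Fin 4) F} (hg : g ∈ Cfsg.GU 4 F p) :
    (g : Matrix (Fin 4) (Fin 4) F).det ^ (p + 1) = 1 := by
  have h := congrArg Matrix.det (hst_eq_one hF hg)
  rwa [Matrix.det_mul, det_hst hF, Matrix.det_one, ← pow_succ] at h

theorem rank_hst (M : Matrix (Fin 4) (Fin 4) F) : (hst p M).rank = M.rank := by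
  rw [show hst p M = (M.map fun x => x ^ p)ᵀ from rfl, Matrix.rank_transpose]
  set M' := M.map fun x => x ^ p
  have key : ∀ N : Matrix (Fin 4) (Fin 4) F,
      Nat.card {v : Fin 4 → F // N *ᵥ v = 0} = Nat.card F ^ (4 - N.rank) := by
    intro N
    have h1 : Nat.card {v : Fin 4 → F // N *ᵥ v = 0} = Nat.card (LinearMap.ker N.mulVecLin) :=
      Nat.card_congr (Equiv.subtypeEquivRight fun v => by simp)
    rw [h1, Module.natCard_eq_pow_finrank (K := F)]
    congr 1
    have h2 := LinearMap.finrank_range_add_finrank_ker N.mulVecLin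
    rw [Module.finrank_fin_fun] at h2
    rw [Matrix.rank]
    omega
  have hc : Nat.card {v : Fin 4 → F // M' *ᵥ v = 0} = Nat.card {v : Fin 4 → F // M *ᵥ v = 0} := by
    refine (Nat.card_congr ((Equiv.piCongrRight fun _ : Fin 4 => (frob hF).toEquiv).subtypeEquiv fun v => ?_)).symm
    have hl : (Equiv.piCongrRight (fun _ : Fin 4 => (frob hF).toEquiv) v) = fun j => frob hF (v j) := rfl
    rw [hl]
    constructor
    · intro h
      funext k
      have := congrArg (frob hF) (congrFun h k)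
      simpa [Matrix.mulVec, dotProduct, M', Unitary.frob_apply, map_sum, mul_pow,
        Unitary.sum_pow_q hF, zero_pow (Unitary.q_ne_zero hF)] using this
    · intro h
      funext k
      refine (frob hF).injective ?_
      have := congrFun h k
      simpa [Matrix.mulVec, dotProduct, M', Unitary.frob_apply, map_sum, mul_pow,
        Unitary.sum_pow_q hF, zero_pow (Unitary.q_ne_zero hF)] using this
  rw [key, key] at hc
  have hF1 : 2 ≤ Nat.card F := by rw [Nat.card_eq_fintype_card]; exact Fintype.one_lt_card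
  have := Nat.pow_right_injective hF1 hc
  have r1 := Matrix.rank_le_card_width M'
  have r2 := Matrix.rank_le_card_width M
  rw [Fintype.card_fin] at r1 r2
  omega

theorem exists_hilbert_ninety {i : F} (hi : i * i = -1) (hip : i ^ p = -i) {d : F} (hd : d ^ (p + 1) = 1) :
    ∃ a : F, a ≠ 0 ∧ a = d * a ^ p := by
  by_cases h : 1 + d = 0
  · refine ⟨i, fun h0 => by rw [h0, zero_mul] at hi; exact neg_ne_zero.2 one_ne_zero hi.symm, ?_⟩
    rw [hip, eq_neg_of_add_eq_zero_right h]; ring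
  · refine ⟨1 + d, h, ?_⟩
    rw [Unitary.add_pow_q hF, one_pow, mul_add, mul_one, ← pow_succ', hd, add_comm]

omit hF in
/-- The splitting of the nontrivial part into two factors swapped by the conjugate transpose. -/
structure Splitting (F : Type*) [Field F] [Fintype F] (p r : ℕ) where
  q : F[X]
  q' : F[X]
  irr : Irreducible q
  irr' : Irreducible q'
  cop : IsCoprime q q'
  prod : q * q' = cyclotomic r F
  star : ∀ T : GL (Fin 4) F, T ∈ Cfsg.GU 4 F p → ∃ U : GL (Fin 4) F,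
    hst p (aeval (T : Matrix (Fin 4) (Fin 4) F) q) = aeval (T : Matrix (Fin 4) (Fin 4) F) q' * U

theorem Splitting.finrank_eq {r : ℕ} (S : Splitting F p r) {T : GL (Fin 4) F} (hT : T ∈ Cfsg.GU 4 F p) :
    finrank F (LinearMap.ker (aeval (Matrix.toLin' (T : Matrix (Fin 4) (Fin 4) F)) S.q)) =
      finrank F (LinearMap.ker (aeval (Matrix.toLin' (T : Matrix (Fin 4) (Fin 4) F)) S.q')) := by
  obtain ⟨U, hU⟩ := S.star T hT
  have hr := rank_hst hF (aeval (T : Matrix (Fin 4) (Fin 4) F) S.q)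
  rw [hU, Matrix.rank_mul_eq_left_of_isUnit_det _ _ ((Matrix.isUnit_iff_isUnit_det _).1 U.isUnit)] at hr
  have e : ∀ q : F[X], (aeval (T : Matrix (Fin 4) (Fin 4) F) q).rank +
      finrank F (LinearMap.ker (aeval (Matrix.toLin' (T : Matrix (Fin 4) (Fin 4) F)) q)) = 4 := fun q => by
    rw [aeval_toLin']
    have := LinearMap.finrank_range_add_finrank_ker (aeval (T : Matrix (Fin 4) (Fin 4) F) q).mulVecLin
    rw [Module.finrank_fin_fun] at this
    exact this
  have h1 := e S.q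
  have h2 := e S.q'
  omega

theorem Splitting.dims {r : ℕ} [Fact r.Prime] (hr : (r : F) ≠ 0) (S : Splitting F p r) {T : GL (Fin 4) F}
    (hT : T ∈ Cfsg.GU 4 F p) (hTr : (T : Matrix (Fin 4) (Fin 4) F) ^ r = 1) :
    2 * finrank F (LinearMap.ker (aeval (Matrix.toLin' (T : Matrix (Fin 4) (Fin 4) F)) S.q)) +
      fixDim (T : Matrix (Fin 4) (Fin 4) F) = 4 := by
  have h := finrank_cyclo hr hTr
  have h1 : finrank F (LinearMap.ker (aeval (Matrix.toLin' (T : Matrix (Fin 4) (Fin 4) F)) (cyclotomic r F))) =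
      finrank F (LinearMap.ker (aeval (Matrix.toLin' (T : Matrix (Fin 4) (Fin 4) F)) S.q)) +
      finrank F (LinearMap.ker (aeval (Matrix.toLin' (T : Matrix (Fin 4) (Fin 4) F)) S.q')) := by
    rw [← finrank_ker_kerRes _ (show S.q ∣ cyclotomic r F from ⟨_, S.prod.symm⟩),
      ← finrank_ker_kerRes _ (show S.q' ∣ cyclotomic r F from ⟨S.q, by rw [mul_comm, S.prod]⟩),
      Submodule.finrank_add_eq_of_isCompl (isCompl_ker S.cop _ (by rw [S.prod]; exact aeval_kerRes_self _ _))]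
  rw [← S.finrank_eq hF hT] at h1
  omega

theorem Splitting.conj {r : ℕ} [Fact r.Prime] (hr : (r : F) ≠ 0) (S : Splitting F p r) {T Y : GL (Fin 4) F}
    (hT : T ∈ Cfsg.GU 4 F p) (hTr : (T : Matrix (Fin 4) (Fin 4) F) ^ r = 1)
    (hY : Y ∈ Cfsg.GU 4 F p) (hYr : (Y : Matrix (Fin 4) (Fin 4) F) ^ r = 1)
    (hf : fixDim (T : Matrix (Fin 4) (Fin 4) F) = fixDim (Y : Matrix (Fin 4) (Fin 4) F)) :
    Sim (Matrix.toLin' (T : Matrix (Fin 4) (Fin 4) F)) (Matrix.toLin' (Y : Matrix (Fin 4) (Fin 4) F)) := by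
  have h1 := S.dims hF hr hT hTr
  have h2 := S.dims hF hr hY hYr
  have h3 := S.finrank_eq hF hT
  have h4 := S.finrank_eq hF hY
  refine sim_three (Polynomial.irreducible_X_sub_C (1 : F)) S.irr S.irr' ?_ S.cop _ _ ?_ ?_ hf (by omega) (by omega)
  · rw [S.prod]; exact (cyclo_coprime hr).symm
  · rw [S.prod, mul_comm]; exact aeval_pow_sub_one hTr
  · rw [S.prod, mul_comm]; exact aeval_pow_sub_one hYr

/-- Unitary elements commuting with `T` have every determinant of norm one. -/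
theorem Splitting.full_det {r : ℕ} [Fact r.Prime] (hr : (r : F) ≠ 0) (S : Splitting F p r) {i : F}
    (hi : i * i = -1) (hip : i ^ p = -i) {T : GL (Fin 4) F} (hT : T ∈ Cfsg.GU 4 F p)
    (hTr : (T : Matrix (Fin 4) (Fin 4) F) ^ r = 1) (hT1 : (T : Matrix (Fin 4) (Fin 4) F) ≠ 1)
    {d : F} (hd : d ^ (p + 1) = 1) :
    ∃ C ∈ Cfsg.GU 4 F p, Commute C T ∧ (C : Matrix (Fin 4) (Fin 4) F).det = d := by
  obtain ⟨a, ha0, ha⟩ := exists_hilbert_ninety hF hi hip hd
  set M := (T : Matrix (Fin 4) (Fin 4) F) with hM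
  have hdim := S.dims hF hr hT hTr
  have hne : LinearMap.ker (aeval (Matrix.toLin' M) S.q) ≠ ⊥ := fun h => by
    rw [h, finrank_bot, mul_zero, zero_add] at hdim
    exact hT1 (fixDim_eq_four.1 hdim)
  have hc1 : IsCoprime S.q (X - C 1) := by
    have h := cyclo_coprime (F := F) hr
    rw [← S.prod] at h
    exact h.of_mul_left_left
  obtain ⟨A, hA, hAim, hAd⟩ := exists_det S.irr (S.cop.mul_right hc1) (Matrix.toLin' M)
    (by rw [← mul_assoc, S.prod]; exact aeval_pow_sub_one hTr) hne ha0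
  set A₀ := LinearMap.toMatrix' A with hA₀
  set N := A₀ - 1 with hN
  have hAT : A₀ * M = M * A₀ := by
    refine Matrix.toLin'.injective (LinearMap.ext fun v => ?_)
    simp only [hA₀, Matrix.toLin'_mul, Matrix.toLin'_toMatrix', LinearMap.comp_apply]
    exact hA v
  have hMi : hst p M = ((T⁻¹ : GL (Fin 4) F) : Matrix (Fin 4) (Fin 4) F) := hst_eq_inv hF hT
  have hstA : hst p A₀ * M = M * hst p A₀ := by
    have h := congrArg (hst p) hAT
    rw [hst_mul hF, hst_mul hF, hMi] at h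
    calc hst p A₀ * M = M * (((T⁻¹ : GL (Fin 4) F) : Matrix (Fin 4) (Fin 4) F) * hst p A₀) * M := by
          rw [← mul_assoc M, hM, Units.mul_inv, one_mul]
      _ = M * hst p A₀ * (((T⁻¹ : GL (Fin 4) F) : Matrix (Fin 4) (Fin 4) F) * M) := by
          rw [h]; simp only [mul_assoc]
      _ = _ := by rw [hM, Units.inv_mul, mul_one]
  have hq : aeval M S.q * N = 0 := by
    refine Matrix.toLin'.injective (LinearMap.ext fun v => ?_)
    rw [map_zero, LinearMap.zero_apply, Matrix.toLin'_mul, LinearMap.comp_apply, ← aeval_toLin', hN,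
      map_sub, hA₀, Matrix.toLin'_toMatrix', Matrix.toLin'_one]
    exact hAim v
  have hcommN : Commute M N := by
    show M * N = N * M
    rw [hN, mul_sub, sub_mul, hAT, mul_one, one_mul]
  have hcommNs : Commute M (hst p N) := by
    show M * hst p N = hst p N * M
    rw [hN, hst_sub hF, hst_one hF, mul_sub, sub_mul, hstA, mul_one, one_mul]
  have hcoP : ∀ {B : Matrix (Fin 4) (Fin 4) F}, Commute M B → ∀ f : F[X], Commute (aeval M f) B :=
    fun hB f => (Algebra.commute_of_mem_adjoin_singleton_of_commute (aeval_mem_adjoin_singleton F M) hB.symm).symm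
  obtain ⟨U, hU⟩ := S.star T hT
  have hq' : hst p N * aeval M S.q' = 0 := by
    have h := congrArg (hst p) hq
    rw [hst_mul hF, hU, Unitary.Asch.hst_zero hF, ← mul_assoc] at h
    calc hst p N * aeval M S.q' = hst p N * aeval M S.q' * (U : Matrix (Fin 4) (Fin 4) F) *
          ((U⁻¹ : GL (Fin 4) F) : Matrix (Fin 4) (Fin 4) F) := by rw [mul_assoc _ (U : Matrix (Fin 4) (Fin 4) F), Units.mul_inv, mul_one]
      _ = 0 := by rw [h, zero_mul]
  obtain ⟨u, v, huv⟩ := S.cop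
  have huv' : aeval M u * aeval M S.q + aeval M v * aeval M S.q' = 1 := by
    rw [← map_mul, ← map_mul, ← map_add, huv, map_one]
  have hzero : ∀ B : Matrix (Fin 4) (Fin 4) F, aeval M S.q * B = 0 → aeval M S.q' * B = 0 → B = 0 := fun B h1 h2 => by
    rw [← one_mul B, ← huv', add_mul, mul_assoc, h1, mul_assoc, h2, mul_zero, mul_zero, add_zero]
  have hNN1 : N * hst p N = 0 := hzero _ (by rw [← mul_assoc, hq, zero_mul]) (by
    rw [← mul_assoc, (hcoP hcommN S.q').eq, mul_assoc, (hcoP hcommNs S.q').eq, hq', mul_zero])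
  have hNN2 : hst p N * N = 0 := hzero _ (by
    rw [← mul_assoc, (hcoP hcommNs S.q).eq, mul_assoc, hq, mul_zero]) (by
    rw [← mul_assoc, (hcoP hcommNs S.q').eq, hq', zero_mul])
  have hnormal : A₀ * hst p A₀ = hst p A₀ * A₀ := by
    have e : A₀ = 1 + N := by rw [hN]; abel
    rw [e, hst_add hF, hst_one hF]
    simp only [add_mul, mul_add, one_mul, mul_one, hNN1, hNN2]
    abel
  obtain ⟨G, hG⟩ : ∃ G : GL (Fin 4) F, (G : Matrix (Fin 4) (Fin 4) F) = A₀ :=
    ⟨Matrix.GeneralLinearGroup.mkOfDetNeZero A₀ (by rw [hA₀, LinearMap.det_toMatrix', hAd]; exact ha0), rfl⟩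
  obtain ⟨Gs, hGs⟩ : ∃ Gs : GL (Fin 4) F, (Gs : Matrix (Fin 4) (Fin 4) F) = hst p A₀ :=
    ⟨(Unitary.Asch.hst_isUnit hF (hG ▸ G.isUnit)).unit, rfl⟩
  have hcomm : Commute G Gs := Units.ext (by rw [Units.val_mul, Units.val_mul, hG, hGs, hnormal])
  refine ⟨G * Gs⁻¹, ?_, ?_, ?_⟩
  · rw [Unitary.Asch.mem_GU_iff_hst hF, Units.val_mul, hst_mul hF]
    have h1 : hst p ((Gs⁻¹ : GL (Fin 4) F) : Matrix (Fin 4) (Fin 4) F) =
        ((G⁻¹ : GL (Fin 4) F) : Matrix (Fin 4) (Fin 4) F) := by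
      refine left_inv_eq_right_inv (a := (G : Matrix (Fin 4) (Fin 4) F)) ?_ (Units.mul_inv G)
      rw [hG, ← hst_hst hF A₀, ← hGs, ← hst_mul hF, Units.mul_inv, hst_one hF]
    rw [h1, hG, ← hGs, ← Units.val_mul, ← hG, ← Units.val_mul, ← Units.val_mul, ← Units.val_one]
    congr 1
    rw [mul_assoc, ← mul_assoc Gs, ← hcomm.eq, mul_assoc G, mul_inv_cancel, mul_one, inv_mul_cancel]
  · exact (show Commute G T from Units.ext (by rw [Units.val_mul, Units.val_mul, hG]; exact hAT)).mul_left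
      (show Commute Gs T from Units.ext (by rw [Units.val_mul, Units.val_mul, hGs]; exact hstA)).inv_left
  · have hd' : (Gs : Matrix (Fin 4) (Fin 4) F).det = a ^ p := by
      rw [hGs, det_hst hF, hA₀, LinearMap.det_toMatrix', hAd]
    rw [Units.val_mul, Matrix.det_mul, hG, hA₀, LinearMap.det_toMatrix', hAd]
    have h1 := congrArg (fun g : GL (Fin 4) F => (g : Matrix (Fin 4) (Fin 4) F).det) (mul_inv_cancel Gs)
    simp only [Units.val_mul, Units.val_one, Matrix.det_mul, Matrix.det_one, hd'] at h1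
    linear_combination d * h1 + ((Gs⁻¹ : GL (Fin 4) F) : Matrix (Fin 4) (Fin 4) F).det * ha

/-- Assemble a conjugating matrix. -/
theorem exists_SU_conj {T Y P : GL (Fin 4) F} (hT : T ∈ Cfsg.GU 4 F p) (hY : Y ∈ Cfsg.GU 4 F p)
    (hP : P ∈ Cfsg.GU 4 F p)
    (hs : Sim (Matrix.toLin' (T : Matrix (Fin 4) (Fin 4) F)) (Matrix.toLin' (Y : Matrix (Fin 4) (Fin 4) F)))
    (hfull : ∀ d : F, d ^ (p + 1) = 1 →
      ∃ C ∈ Cfsg.GU 4 F p, Commute C Y ∧ (C : Matrix (Fin 4) (Fin 4) F).det = d) :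
    ∃ g ∈ Cfsg.GU 4 F p, (g : Matrix (Fin 4) (Fin 4) F).det = 1 ∧ g⁻¹ * T * g = P * Y * P⁻¹ := by
  obtain ⟨g1, hg1⟩ := exists_conj_of_sim hs
  have hc : IsConj (⟨T, hT⟩ : Cfsg.GU 4 F p) ⟨Y, hY⟩ :=
    (Unitary.isConj_GU_iff hF _ _).2 (isConj_iff.2 ⟨g1⁻¹, by rw [inv_inv]; exact hg1⟩)
  obtain ⟨⟨k, hk⟩, hkk⟩ := isConj_iff.1 hc
  have hkk' : k * T * k⁻¹ = Y := congrArg Subtype.val hkk
  set h := k⁻¹ * P⁻¹ with hh
  have hhU : h ∈ Cfsg.GU 4 F p := mul_mem (inv_mem hk) (inv_mem hP)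
  set δ := (h : Matrix (Fin 4) (Fin 4) F).det with hδ
  have hδn : δ ^ (p + 1) = 1 := det_norm hF hhU
  have hδ0 : δ ≠ 0 := fun h0 => by rw [h0, zero_pow (by omega)] at hδn; exact zero_ne_one hδn
  obtain ⟨C', hC', hCY, hCd⟩ := hfull δ⁻¹ (by rw [inv_pow, hδn, inv_one])
  refine ⟨k⁻¹ * C' * P⁻¹, mul_mem (mul_mem (inv_mem hk) hC') (inv_mem hP), ?_, ?_⟩
  · rw [Units.val_mul, Units.val_mul, Matrix.det_mul, Matrix.det_mul, hCd]
    have : δ = ((k⁻¹ : GL (Fin 4) F) : Matrix (Fin 4) (Fin 4) F).det *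
        ((P⁻¹ : GL (Fin 4) F) : Matrix (Fin 4) (Fin 4) F).det := by
      rw [hδ, hh, Units.val_mul, Matrix.det_mul]
    rw [mul_right_comm, ← this, mul_inv_cancel₀ hδ0]
  · calc (k⁻¹ * C' * P⁻¹)⁻¹ * T * (k⁻¹ * C' * P⁻¹) = P * (C'⁻¹ * ((k * T * k⁻¹) * C')) * P⁻¹ := by group
      _ = _ := by rw [hkk', ← hCY.eq, inv_mul_cancel_left]

theorem isSquare_of_fixed (hodd : p % 2 = 1) {u : F} (hu : u ^ p = u) : IsSquare u := by
  rcases eq_or_ne u 0 with rfl | hu0
  · exact IsSquare.zero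
  have h1 := Unitary.pow_sub_one_eq_one hF hu0 hu
  have hchar : ringChar F ≠ 2 := fun h => by
    have := FiniteField.even_card_iff_char_two.1 h
    rw [hF, Nat.pow_mod, hodd] at this
    norm_num at this
  rw [FiniteField.isSquare_iff hchar hu0, hF]
  obtain ⟨m, rfl⟩ : ∃ m, p = 2 * m + 1 := ⟨p / 2, by omega⟩
  rw [show (2 * m + 1) ^ 2 / 2 = (2 * m + 1 - 1) * (m + 1) by
    rw [show (2 * m + 1) ^ 2 = 1 + 2 * (2 * m * (m + 1)) by ring, Nat.add_mul_div_left _ _ two_pos]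
    simp, pow_mul, h1, one_pow]

/-- The frame can be chosen unitary. -/
theorem exists_unitary_frame {R : Subgroup (GL (Fin 4) F)} {i : F} (hd : PauliData R i) (hRU : R ≤ Cfsg.GU 4 F p) :
    ∃ P : GL (Fin 4) F, P ∈ Cfsg.GU 4 F p ∧ Frame R P := by
  obtain ⟨P, hP⟩ := exists_frame hd
  set G := hst p (P : Matrix (Fin 4) (Fin 4) F) * (P : Matrix (Fin 4) (Fin 4) F) with hG
  have key : ∀ s : Matrix (Fin 4) (Fin 4) F, hst p s = s → s * s = 1 →
      (∃ g ∈ R, (g : Matrix (Fin 4) (Fin 4) F) * (P : Matrix (Fin 4) (Fin 4) F) = (P : Matrix (Fin 4) (Fin 4) F) * s) →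
      G * s = s * G := by
    rintro s hs hss ⟨g, hg, hgs⟩
    have e : s * G * s = G := by
      have h1 : hst p ((P : Matrix (Fin 4) (Fin 4) F) * s) * ((P : Matrix (Fin 4) (Fin 4) F) * s) = G := by
        rw [← hgs, hst_mul hF, mul_assoc, ← mul_assoc (hst p (g : Matrix (Fin 4) (Fin 4) F)),
          hst_eq_one hF (hRU hg), one_mul]
      rw [hst_mul hF, hs] at h1
      rw [hG] at h1 ⊢
      simp only [mul_assoc] at h1 ⊢
      exact h1
    calc G * s = (s * G * s) * s := by rw [e]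
      _ = _ := by rw [mul_assoc, hss, mul_one]
  have h0 : hst p (0 : Matrix (Fin 4) (Fin 4) F) = 0 := Unitary.Asch.hst_zero hF
  have hp0 : p ≠ 0 := Unitary.q_ne_zero hF
  have hneg : ((-1 : F)) ^ p = -1 := by rw [Unitary.neg_pow_q hF, one_pow]
  have hGs := std_commutant hd.two G
    (key sA1 (by ext a b; fin_cases a <;> fin_cases b <;> simp [hst_apply, sA1, hp0])
      (by ext a b; fin_cases a <;> fin_cases b <;> simp [Matrix.mul_apply, Fin.sum_univ_four, sA1]) hP.a1)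
    (key sB1 (by ext a b; fin_cases a <;> fin_cases b <;> simp [hst_apply, sB1, hp0, hneg])
      (by ext a b; fin_cases a <;> fin_cases b <;> simp [Matrix.mul_apply, Fin.sum_univ_four, sB1]) hP.b1)
    (key sA2 (by ext a b; fin_cases a <;> fin_cases b <;> simp [hst_apply, sA2, hp0])
      (by ext a b; fin_cases a <;> fin_cases b <;> simp [Matrix.mul_apply, Fin.sum_univ_four, sA2]) hP.a2)
    (key sB2 (by ext a b; fin_cases a <;> fin_cases b <;> simp [hst_apply, sB2, hp0, hneg])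
      (by ext a b; fin_cases a <;> fin_cases b <;> simp [Matrix.mul_apply, Fin.sum_univ_four, sB2]) hP.b2)
  set γ := G 0 0
  have hγ : γ ^ p = γ := by
    have h := congrArg (hst p) hGs
    rw [hG, hst_mul hF, hst_hst hF, ← hG, hGs, hst_smul_one hF] at h
    exact (scalar_inj h).symm
  have hγ0 : γ ≠ 0 := fun h => by
    rw [h, zero_smul] at hGs
    exact (((Unitary.Asch.hst_isUnit hF P.isUnit).mul P.isUnit).ne_zero) hGs
  obtain ⟨c, hc⟩ := Unitary.exists_norm_eq hF (a := γ⁻¹) (by rw [inv_pow, hγ])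
  have hc0 : c ≠ 0 := fun h => by rw [h, zero_mul] at hc; exact inv_ne_zero hγ0 hc.symm
  obtain ⟨t, ht⟩ := exists_scalar hc0
  have hP' : ((t * P : GL (Fin 4) F) : Matrix (Fin 4) (Fin 4) F) = c • (P : Matrix (Fin 4) (Fin 4) F) := by
    rw [Units.val_mul, ht, Matrix.smul_mul, one_mul]
  refine ⟨t * P, ?_, hP.smul hP'⟩
  rw [Unitary.Asch.mem_GU_iff_hst hF, hP', hst_smul, Matrix.smul_mul, Matrix.mul_smul, smul_smul, ← hG, hGs, smul_smul]
  rw [show c ^ p * c * γ = 1 by rw [mul_comm (c ^ p) c, hc, inv_mul_cancel₀ hγ0], one_smul]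

/-- The splitting for `r = 3`. -/
theorem exists_splitting_three {w : F} (hw : w ^ 3 = 1) (hw1 : w ≠ 1) (hwp : w ^ p = w) :
    Nonempty (Splitting F p 3) := by
  have hsum : w ^ 2 + w + 1 = 0 := by
    have : (w - 1) * (w ^ 2 + w + 1) = 0 := by linear_combination hw
    exact (mul_eq_zero.1 this).resolve_left (sub_ne_zero.2 hw1)
  have hne : w ≠ w ^ 2 := fun h => by
    refine hw1 ?_
    calc w = w ^ 2 * w ^ 2 := by linear_combination -w * hw
      _ = w * w ^ 2 := by rw [← h]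
      _ = 1 := by rw [← pow_succ', hw]
  refine ⟨⟨X - C w, X - C (w ^ 2), irreducible_X_sub_C _, irreducible_X_sub_C _,
    isCoprime_X_sub_C_of_isUnit_sub (isUnit_iff_ne_zero.2 (sub_ne_zero.2 hne)), ?_, fun T hT => ?_⟩⟩
  · rw [cyclotomic_three]
    have h1 : C (w ^ 2) + C w + 1 = (0 : F[X]) := by rw [← C_1, ← C_add, ← C_add, hsum, C_0]
    have h2 : C w * C (w ^ 2) = (1 : F[X]) := by rw [← C_mul, ← pow_succ', hw, C_1]
    linear_combination -X * h1 + h2
  · have hw0 : w ≠ 0 := fun h => by rw [h] at hw; simp at hw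
    obtain ⟨t, ht⟩ := exists_scalar (neg_ne_zero.2 hw0)
    refine ⟨t * T⁻¹, ?_⟩
    simp only [map_sub, aeval_X, aeval_C, Algebra.algebraMap_eq_smul_one]
    rw [hst_sub hF, hst_smul_one hF, hwp, hst_eq_inv hF hT, Units.val_mul, ht, Matrix.smul_mul, one_mul,
      sub_mul, Matrix.mul_smul, Matrix.smul_mul, one_mul, Units.mul_inv, smul_smul]
    rw [show w ^ 2 * -w = -1 by linear_combination -hw]
    module

/-- The splitting for `r = 5`. -/
theorem exists_splitting_five {a : F} (ha : a * a - a - 1 = 0) (hap : a ^ p = 1 - a) (h5 : (5 : F) ≠ 0)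
    (hno : ∀ x : F, x ^ 5 = 1 → x = 1) : ∃ S : Splitting F p 5, S.q.natDegree = 2 := by
  haveI : Fact (Nat.Prime 5) := ⟨Nat.prime_five⟩
  have hroot : ∀ b : F, b * b - b - 1 = 0 → Irreducible (X ^ 2 + C b * X + 1 : F[X]) := by
    intro b hb
    refine Polynomial.irreducible_of_degree_le_three_of_not_isRoot ?_ fun x hx => ?_
    · have : (X ^ 2 + C b * X + 1 : F[X]).natDegree = 2 := by compute_degree!
      rw [this]; decide
    · have hx' : x ^ 2 + b * x + 1 = 0 := by simpa [IsRoot] using hx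
      have hx5 : x ^ 5 = 1 := by
        linear_combination (x - 1) * (x ^ 2 + (1 - b) * x + 1) * hx' + (-(x - 1)) * x ^ 2 * (-1) * hb
      rw [hno x hx5] at hx'
      exact h5 (by linear_combination hb - (b - 3) * hx')
  have ha' : (1 - a) * (1 - a) - (1 - a) - 1 = 0 := by linear_combination ha
  have hd : 2 * a - 1 ≠ 0 := fun h => h5 (by linear_combination -4 * ha + (2 * a - 1) * h)
  refine ⟨⟨X ^ 2 + C a * X + 1, X ^ 2 + C (1 - a) * X + 1, hroot a ha, hroot _ ha', ?_, ?_, fun T hT => ?_⟩,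
    by show (X ^ 2 + C a * X + 1 : F[X]).natDegree = 2; compute_degree!⟩
  · refine ⟨1 - C (2 * a - 1)⁻¹ * (X + C a), C (2 * a - 1)⁻¹ * (X + C a), ?_⟩
    have h1 : C (2 * a - 1)⁻¹ * (C a - C (1 - a)) = (1 : F[X]) := by
      rw [← C_sub, ← C_mul, show a - (1 - a) = 2 * a - 1 by ring, inv_mul_cancel₀ hd, C_1]
    linear_combination -(X * (X + C a)) * h1
  · have h : C a * C (1 - a) = (-1 : F[X]) := by
      rw [← C_mul, show a * (1 - a) = -1 by linear_combination -ha, C_neg, C_1]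
    have h' : C a + C (1 - a) = (1 : F[X]) := by rw [← C_add, add_sub_cancel, C_1]
    rw [cyclotomic_prime]
    simp only [Finset.sum_range_succ, Finset.sum_range_zero]
    linear_combination X ^ 2 * h + (X ^ 3 + X) * h'
  · refine ⟨T⁻¹ * T⁻¹, ?_⟩
    simp only [map_add, map_mul, map_pow, map_one, aeval_X, aeval_C, Algebra.algebraMap_eq_smul_one]
    set M := (T : Matrix (Fin 4) (Fin 4) F) with hM
    set N := ((T⁻¹ : GL (Fin 4) F) : Matrix (Fin 4) (Fin 4) F) with hN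
    have hMN : M * N = 1 := Units.mul_inv T
    rw [hst_add hF, hst_add hF, hst_one hF, pow_two, hst_mul hF, Matrix.smul_mul, one_mul, hst_smul,
      hst_eq_inv hF hT, hap, Units.val_mul, add_mul, add_mul, Matrix.smul_mul, one_mul, one_mul,
      Matrix.smul_mul, ← hN, mul_assoc M M, ← mul_assoc M N N, hMN, one_mul, hMN]
    rw [add_comm (N * N), add_comm (1 : Matrix (Fin 4) (Fin 4) F), add_comm ((1 - a) • N) (N * N)]
    abel

theorem targets_GU {i : F} (hi : i * i = -1) (hip : i ^ p = -i) (h2 : (2 : F) ≠ 0)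
    {Y : GL (Fin 4) F} (hY : (Y : Matrix (Fin 4) (Fin 4) F) = sB2 ∨ (Y : Matrix (Fin 4) (Fin 4) F) = cz ∨
      (Y : Matrix (Fin 4) (Fin 4) F) = -cz ∨ (Y : Matrix (Fin 4) (Fin 4) F) = y31 i ∨
      (Y : Matrix (Fin 4) (Fin 4) F) = y32 i ∨ (Y : Matrix (Fin 4) (Fin 4) F) = y5 i) :
    Y ∈ Cfsg.GU 4 F p := by
  rw [Unitary.Asch.mem_GU_iff_hst hF]
  have hp0 : p ≠ 0 := Unitary.q_ne_zero hF
  have hf : ∀ x : F, x ^ p = frob hF x := fun x => rfl
  have hfi : frob hF i = -i := hip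
  rcases hY with h | h | h | h | h | h <;> rw [h] <;> ext a b <;> fin_cases a <;> fin_cases b <;>
    simp [Matrix.mul_apply, Fin.sum_univ_four, hst_apply, hf, hfi, map_ofNat, sB2, cz, y31, y32, y5] <;> grind

end Cfsg.Agent.H73.Pauli
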