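import Cfsg.Prelude.Def_GeometricClasses
import Cfsg.Agent.H46.SympExpFour

/-!
# The 2-group of symplectic type of order 64 in GL(4) : basic facts
-/

set_option autoImplicit false

namespace Cfsg.Agent.H73.Pauli

open Matrix
open scoped MatrixGroups

variable {F : Type*} [Field F]

/-- The facts about `R` that are used. -/
structure PauliData (R : Subgroup (GL (Fin 4) F)) (i : F) : Prop where
  card : Nat.card R = 64
  two : (2 : F) ≠ 0
  i_sq : i * i = -1
  imem : ∀ g : GL (Fin 4) F, (g : Matrix (Fin 4) (Fin 4) F) = i • 1 → g ∈ R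
  scalar_pow : ∀ g ∈ R, ∀ c : F, (g : Matrix (Fin 4) (Fin 4) F) = c • 1 → c ^ 4 = 1
  sq : ∀ g ∈ R, g * g = 1 ∨ g * g = -1
  comm : ∀ g ∈ R, ∀ h ∈ R, g * h = h * g ∨ g * h = -(h * g)
  schur : ∀ M : Matrix (Fin 4) (Fin 4) F,
    (∀ g ∈ R, M * (g : Matrix (Fin 4) (Fin 4) F) = (g : Matrix (Fin 4) (Fin 4) F) * M) → ∃ c : F, M = c • 1

/-- A scalar matrix. -/
def IsScalar (g : GL (Fin 4) F) : Prop := ∃ c : F, (g : Matrix (Fin 4) (Fin 4) F) = c • 1

theorem IsScalar.commute {g : GL (Fin 4) F} (hg : IsScalar g) (h : GL (Fin 4) F) : Commute g h := by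
  obtain ⟨c, hc⟩ := hg
  refine Units.ext ?_
  rw [Units.val_mul, Units.val_mul, hc, Matrix.smul_mul, Matrix.mul_smul, one_mul, mul_one]

theorem exists_scalar {c : F} (hc : c ≠ 0) :
    ∃ g : GL (Fin 4) F, (g : Matrix (Fin 4) (Fin 4) F) = c • 1 :=
  ⟨Units.map (Matrix.scalar (Fin 4) : F →+* Matrix (Fin 4) (Fin 4) F).toMonoidHom (Units.mk0 c hc),
    by simp [Matrix.smul_one_eq_diagonal]⟩

theorem scalar_inj {a b : F} (h : a • (1 : Matrix (Fin 4) (Fin 4) F) = b • 1) : a = b := by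
  simpa using congrFun (congrFun h 0) 0

theorem exists_pauliData {p : ℕ} [Fact p.Prime] [CharP F p] (hp : p ≠ 2) [Finite F]
    (R : Subgroup (GL (Fin 4) F)) (hRs : Cfsg.Geo.IsSymplecticTypeGroup 2 R)
    (hRi : Cfsg.Geo.ActsAbsolutelyIrreducibly (Cfsg.Geo.matrixSet R))
    (hR6 : Nat.card R = 2 ^ 6) (hRZ : Nat.card (Subgroup.center R) = 4) :
    ∃ i : F, PauliData R i := by
  classical
  have h2 : (2 : F) ≠ 0 := by
    intro h
    have hd : p ∣ 2 := (CharP.cast_eq_zero_iff F p 2).1 (by exact_mod_cast h)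
    exact hp ((Nat.prime_dvd_prime_iff_eq Fact.out Nat.prime_two).1 hd)
  have h4 : ∀ a : R, a ^ 4 = 1 := fun a => by
    have h := Monoid.pow_exponent_eq_one a
    rwa [hRs.exponent_eq, show 2 * Nat.gcd 2 2 = 4 by norm_num] at h
  have hsch : ∀ M : Matrix (Fin 4) (Fin 4) F,
      (∀ g ∈ R, M * (g : Matrix (Fin 4) (Fin 4) F) = (g : Matrix (Fin 4) (Fin 4) F) * M) →
        ∃ c : F, M = c • 1 := by
    intro M hM
    refine hRi.2 M ?_
    rintro _ ⟨g, hg, rfl⟩
    exact hM g hg
  have hcs : ∀ z : R, z ∈ Subgroup.center R →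
      ∃ c : F, ((z : GL (Fin 4) F) : Matrix (Fin 4) (Fin 4) F) = c • 1 := by
    intro z hz
    refine hsch _ fun g hg => ?_
    have h := congrArg Subtype.val (Subgroup.mem_center_iff.1 hz ⟨g, hg⟩)
    exact (congrArg (fun a : GL (Fin 4) F => (a : Matrix (Fin 4) (Fin 4) F)) h).symm
  -- the scalars of R
  let sc : Fˣ →* GL (Fin 4) F := Units.map (Matrix.scalar (Fin 4) : F →+* Matrix (Fin 4) (Fin 4) F).toMonoidHom
  have hsc : ∀ t : Fˣ, (sc t : Matrix (Fin 4) (Fin 4) F) = (t : F) • 1 := fun t => by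
    simp [sc, Matrix.smul_one_eq_diagonal]
  have hinj : Function.Injective sc := fun a b h => Units.ext (scalar_inj (by rw [← hsc, ← hsc, h]))
  let S : Subgroup Fˣ := R.comap sc
  have hS : Nat.card S = 4 := by
    rw [← hRZ]
    refine Nat.card_congr (Equiv.ofBijective (fun t => ⟨⟨sc t.1, t.2⟩, ?_⟩) ⟨?_, ?_⟩)
    · exact Subgroup.mem_center_iff.2 fun g =>
        Subtype.ext ((IsScalar.commute ⟨_, hsc t.1⟩ (g : GL (Fin 4) F)).eq.symm)
    · intro a b h
      exact Subtype.ext (hinj (congrArg Subtype.val (congrArg Subtype.val h)))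
    · rintro ⟨⟨g, hg⟩, hz⟩
      obtain ⟨c, hc⟩ := hcs _ hz
      have hc' : (g : Matrix (Fin 4) (Fin 4) F) = c • 1 := hc
      have hc0 : c ≠ 0 := by
        rintro rfl
        exact g.ne_zero (by rw [hc', zero_smul])
      have hgs : sc (Units.mk0 c hc0) = g := Units.ext (by rw [hsc, hc']; rfl)
      refine ⟨⟨Units.mk0 c hc0, show sc _ ∈ R by rw [hgs]; exact hg⟩, ?_⟩
      exact Subtype.ext (Subtype.ext hgs)
  obtain ⟨t, ht⟩ := IsCyclic.exists_generator (α := S)
  have hto : orderOf t = 4 := (orderOf_eq_card_of_forall_mem_zpowers ht).trans hS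
  have hi2 : ((t : Fˣ) : F) * ((t : Fˣ) : F) = -1 := by
    have h1 : (((t : Fˣ) : F) * ((t : Fˣ) : F)) * (((t : Fˣ) : F) * ((t : Fˣ) : F)) = 1 := by
      have h := congrArg (fun a : S => ((a : Fˣ) : F)) (pow_orderOf_eq_one t)
      rw [hto] at h
      simp only [SubmonoidClass.coe_pow, Units.val_pow_eq_pow_val, OneMemClass.coe_one, Units.val_one] at h
      linear_combination h
    rcases mul_self_eq_one_iff.1 h1 with h | h
    · exfalso
      have h' : t ^ 2 = 1 := Subtype.ext (Units.ext (by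
        simp only [SubmonoidClass.coe_pow, Units.val_pow_eq_pow_val, OneMemClass.coe_one, Units.val_one, pow_two]
        exact h))
      have hd2 := orderOf_dvd_of_pow_eq_one h'
      rw [hto] at hd2
      norm_num at hd2
    · exact h
  -- the central involution
  have hsq : sc ((t : Fˣ) * t) ∈ R := (t * t).2
  have hneg : sc ((t : Fˣ) * t) = -1 := Units.ext (by
    rw [hsc, Units.val_mul, hi2, Units.val_neg, Units.val_one, neg_smul, one_smul])
  rw [hneg] at hsq
  set z : R := ⟨-1, hsq⟩ with hz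
  have hzc : z ∈ Subgroup.center R := Subgroup.mem_center_iff.2 fun g => Subtype.ext (by
    show (g : GL (Fin 4) F) * -1 = -1 * (g : GL (Fin 4) F)
    rw [mul_neg_one, neg_one_mul])
  have hne : (-1 : GL (Fin 4) F) ≠ 1 := fun h => by
    have h' := congrArg (fun a : GL (Fin 4) F => (a : Matrix (Fin 4) (Fin 4) F) 0 0) h
    simp only [Units.val_neg, Units.val_one, Matrix.neg_apply, Matrix.one_apply_eq] at h'
    exact h2 (by linear_combination -h')
  have hz2 : z ^ 2 = 1 := Subtype.ext (by simp [hz, pow_two])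
  have hQ : Cfsg.IsOfSymplecticType R := ⟨hRs.pGroup, hRs.cyclic_of_characteristic⟩
  obtain ⟨⟨hsm, hcm⟩, -⟩ := H46.symp_exp_four hQ h4 hzc hz2 (fun h => hne (congrArg Subtype.val h))
  refine ⟨((t : Fˣ) : F), by rw [hR6]; norm_num, h2, hi2, fun g hg => ?_, fun g hg c hc => ?_,
    fun g hg => ?_, fun g hg h hh => ?_, hsch⟩
  · have hgs : g = sc (t : Fˣ) := Units.ext (by rw [hsc, hg])
    rw [hgs]; exact t.2
  · have h := congrArg (fun a : GL (Fin 4) F => (a : Matrix (Fin 4) (Fin 4) F))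
      (congrArg Subtype.val (h4 ⟨g, hg⟩))
    simp only [SubmonoidClass.coe_pow, Units.val_pow_eq_pow_val, OneMemClass.coe_one, Units.val_one, hc] at h
    rw [smul_pow, one_pow] at h
    exact scalar_inj (h.trans (one_smul F _).symm)
  · rcases hsm ⟨g, hg⟩ with e | e
    · exact Or.inl (by simpa [pow_two] using congrArg Subtype.val e)
    · exact Or.inr (by simpa [pow_two, hz] using congrArg Subtype.val e)
  · rcases hcm ⟨g, hg⟩ ⟨h, hh⟩ with e | e
    · left
      have e' : g * h * g⁻¹ * h⁻¹ = 1 := congrArg Subtype.val e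
      rw [mul_inv_eq_one, mul_inv_eq_iff_eq_mul] at e'
      exact e'
    · right
      have e' : g * h * g⁻¹ * h⁻¹ = -1 := congrArg Subtype.val e
      rw [mul_inv_eq_iff_eq_mul, mul_inv_eq_iff_eq_mul] at e'
      rw [e', neg_one_mul, neg_mul]

variable {R : Subgroup (GL (Fin 4) F)} {i : F}

theorem PauliData.i_ne_zero (hd : PauliData R i) : i ≠ 0 := fun h => by
  have := hd.i_sq
  rw [h, mul_zero] at this
  exact neg_ne_zero.2 one_ne_zero this.symm

theorem PauliData.ne_neg (hd : PauliData R i) (g : GL (Fin 4) F) : g ≠ -g := fun h => by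
  refine g.ne_zero ?_
  ext a b
  have h' := congrArg (fun c : GL (Fin 4) F => (c : Matrix (Fin 4) (Fin 4) F) a b) h
  simp only [Units.val_neg, Matrix.neg_apply] at h'
  exact (mul_eq_zero.1 (show (2 : F) * _ = 0 by linear_combination h')).resolve_left hd.two

theorem PauliData.neg_one_mem (hd : PauliData R i) : (-1 : GL (Fin 4) F) ∈ R := by
  obtain ⟨g, hg⟩ := exists_scalar hd.i_ne_zero
  have h : g * g = -1 := Units.ext (by
    rw [Units.val_mul, hg, Matrix.smul_mul, Matrix.mul_smul, smul_smul, one_mul, hd.i_sq, Units.val_neg, Units.val_one, neg_smul, one_smul])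
  exact h ▸ mul_mem (hd.imem g hg) (hd.imem g hg)

/-- Commuting or anticommuting, exclusively. -/
theorem PauliData.anti_of_not (hd : PauliData R i) {g h : GL (Fin 4) F} (hg : g ∈ R) (hh : h ∈ R)
    (hn : ¬ Commute g h) : g * h = -(h * g) := (hd.comm g hg h hh).resolve_left hn

theorem PauliData.not_commute_of_anti (hd : PauliData R i) {g h : GL (Fin 4) F}
    (h1 : g * h = -(h * g)) : ¬ Commute g h := fun hc => hd.ne_neg (h * g) (hc.eq.symm.trans h1)

theorem PauliData.exists_anti (hd : PauliData R i) {g : GL (Fin 4) F} (hg : g ∈ R) (hs : ¬ IsScalar g) :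
    ∃ h ∈ R, g * h = -(h * g) := by
  by_contra hcon
  push Not at hcon
  refine hs (hd.schur _ fun h hh => ?_)
  exact congrArg Units.val ((hd.comm g hg h hh).resolve_right (hcon h hh))

theorem PauliData.trace_eq_zero (hd : PauliData R i) {g : GL (Fin 4) F} (hg : g ∈ R) (hs : ¬ IsScalar g) :
    (g : Matrix (Fin 4) (Fin 4) F).trace = 0 := by
  obtain ⟨h, -, hgh⟩ := hd.exists_anti hg hs
  have h1 : h * g * h⁻¹ = -g := by
    rw [mul_inv_eq_iff_eq_mul, neg_mul, hgh, neg_neg]
  have h2 := congrArg (fun a : GL (Fin 4) F => (a : Matrix (Fin 4) (Fin 4) F).trace) h1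
  simp only [Units.val_mul, Units.val_neg, Matrix.trace_neg, Matrix.trace_units_conj] at h2
  exact (mul_eq_zero.1 (show (2 : F) * _ = 0 by linear_combination h2)).resolve_left hd.two

/-- Membership in the normaliser. -/
theorem conj_mem_of_normalizer {y g : GL (Fin 4) F} (hy : y ∈ Cfsg.Geo.subgroupNormalizer R) (hg : g ∈ R) :
    y * g * y⁻¹ ∈ R :=
  (Subgroup.mem_normalizer_iff.1 hy g).1 hg

theorem commute_of_scalar_pow {y g : GL (Fin 4) F} {r : ℕ} (hs : IsScalar (y ^ r)) :
    y ^ r * g * (y ^ r)⁻¹ = g := by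
  rw [(hs.commute g).eq, mul_inv_cancel_right]

theorem PauliData.scalar_of_commute (hd : PauliData R i) {y : GL (Fin 4) F}
    (h : ∀ g ∈ R, Commute y g) : IsScalar y :=
  hd.schur _ fun g hg => congrArg Units.val (h g hg)

end Cfsg.Agent.H73.Pauli
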