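import Cfsg.Agent.H73.Pauli.Common

/-!
# The linear case
-/

set_option autoImplicit false
set_option linter.style.haveILetI false

namespace Cfsg.Agent.H73.Pauli

open Polynomial Module
open scoped Matrix
open scoped MatrixGroups

variable {F : Type*} [Field F] [Finite F]

theorem cyclo_prod (r : ℕ) [Fact r.Prime] :
    cyclotomic r F * (X - C 1) = X ^ r - 1 := by
  rw [C_1]; exact cyclotomic_prime_mul_X_sub_one F r

theorem cyclo_coprime {r : ℕ} [Fact r.Prime] (hr : (r : F) ≠ 0) :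
    IsCoprime (cyclotomic r F) (X - C 1) := by
  refine IsCoprime.symm ((Polynomial.irreducible_X_sub_C (1 : F)).coprime_iff_not_dvd.2 fun h => hr ?_)
  have := Polynomial.dvd_iff_isRoot.1 h
  rwa [IsRoot, eval_one_cyclotomic_prime] at this

theorem aeval_pow_sub_one {r : ℕ} [Fact r.Prime] {A : Matrix (Fin 4) (Fin 4) F} (hA : A ^ r = 1) :
    aeval (Matrix.toLin' A) (cyclotomic r F * (X - C 1)) = 0 := by
  refine aeval_toLin'_eq_zero ?_
  rw [cyclo_prod, map_sub, map_pow, aeval_X, map_one, hA, sub_self]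

theorem finrank_cyclo {r : ℕ} [Fact r.Prime] (hr : (r : F) ≠ 0) {A : Matrix (Fin 4) (Fin 4) F} (hA : A ^ r = 1) :
    finrank F (LinearMap.ker (aeval (Matrix.toLin' A) (cyclotomic r F))) + fixDim A = 4 := by
  rw [fixDim, Submodule.finrank_add_eq_of_isCompl (isCompl_ker (cyclo_coprime hr) _ (aeval_pow_sub_one hA)),
    Module.finrank_fin_fun]

theorem ker_cyclo_ne_bot {r : ℕ} [Fact r.Prime] (hr : (r : F) ≠ 0) {A : Matrix (Fin 4) (Fin 4) F} (hA : A ^ r = 1)
    (hA1 : A ≠ 1) : LinearMap.ker (aeval (Matrix.toLin' A) (cyclotomic r F)) ≠ ⊥ := fun h => by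
  have h1 := finrank_cyclo hr hA
  rw [h, finrank_bot, zero_add] at h1
  exact hA1 (fixDim_eq_four.1 h1)

/-- Elements of the same class are conjugate by matrices of determinant one. -/
theorem exists_det_one_conj {r : ℕ} [Fact r.Prime] (hr : (r : F) ≠ 0) (hirr : Irreducible (cyclotomic r F))
    {T Y : GL (Fin 4) F} (hT : (T : Matrix (Fin 4) (Fin 4) F) ^ r = 1) (hY : (Y : Matrix (Fin 4) (Fin 4) F) ^ r = 1)
    (hT1 : (T : Matrix (Fin 4) (Fin 4) F) ≠ 1)
    (hf : fixDim (T : Matrix (Fin 4) (Fin 4) F) = fixDim (Y : Matrix (Fin 4) (Fin 4) F)) (P : GL (Fin 4) F) :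
    ∃ g : GL (Fin 4) F, (g : Matrix (Fin 4) (Fin 4) F).det = 1 ∧ g⁻¹ * T * g = P * Y * P⁻¹ := by
  have hs : Sim (Matrix.toLin' (T : Matrix (Fin 4) (Fin 4) F)) (Matrix.toLin' (Y : Matrix (Fin 4) (Fin 4) F)) := by
    refine sim_two hirr (Polynomial.irreducible_X_sub_C (1 : F)) (cyclo_coprime hr) _ _
      (aeval_pow_sub_one hT) (aeval_pow_sub_one hY) ?_ hf
    have h1 := finrank_cyclo hr hT
    have h2 := finrank_cyclo hr hY
    omega
  obtain ⟨g0, hg0⟩ := exists_conj_of_sim hs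
  set h := g0 * P⁻¹ with hh
  have hd0 : (h : Matrix (Fin 4) (Fin 4) F).det ≠ 0 :=
    ((Matrix.isUnit_iff_isUnit_det _).1 h.isUnit).ne_zero
  obtain ⟨A, hA, -, hAd⟩ := exists_det hirr (cyclo_coprime hr) _ (aeval_pow_sub_one hT)
    (ker_cyclo_ne_bot hr hT hT1) (inv_ne_zero hd0)
  obtain ⟨C', hC'⟩ : ∃ C' : GL (Fin 4) F, (C' : Matrix (Fin 4) (Fin 4) F) = LinearMap.toMatrix' A :=
    ⟨Matrix.GeneralLinearGroup.mkOfDetNeZero (LinearMap.toMatrix' A)
      (by rw [LinearMap.det_toMatrix', hAd]; exact inv_ne_zero hd0), rfl⟩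
  have hcom : C' * T = T * C' := by
    refine Units.ext (Matrix.toLin'.injective (LinearMap.ext fun v => ?_))
    simp only [Units.val_mul, hC', Matrix.toLin'_mul, Matrix.toLin'_toMatrix', LinearMap.comp_apply]
    exact hA v
  refine ⟨C' * h, ?_, ?_⟩
  · rw [Units.val_mul, Matrix.det_mul, hC', LinearMap.det_toMatrix', hAd, inv_mul_cancel₀ hd0]
  · calc (C' * h)⁻¹ * T * (C' * h) = h⁻¹ * (C'⁻¹ * (T * C')) * h := by group
      _ = h⁻¹ * T * h := by rw [← hcom, inv_mul_cancel_left]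
      _ = P * (g0⁻¹ * T * g0) * P⁻¹ := by rw [hh]; group
      _ = _ := by rw [hg0]

theorem irreducible_cyclotomic_of_orderOf {F : Type*} [Field F] [Fintype F] {p : ℕ} [Fact p.Prime]
    (hF : Fintype.card F = p) {r : ℕ} [Fact r.Prime] (hord : orderOf (p : ZMod r) = r - 1) (hpr : p ≠ r) :
    Irreducible (cyclotomic r F) := by
  have hn : p.Coprime r := (Nat.coprime_primes Fact.out Fact.out).2 hpr
  refine Polynomial.irreducible_of_dvd_cyclotomic_of_natDegree (p := p) (f := 1)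
    (by rw [pow_one, hF]) hn dvd_rfl ?_
  rw [natDegree_cyclotomic, Nat.totient_prime Fact.out, ← orderOf_units, ZMod.coe_unitOfCoprime, pow_one, hord]

end Cfsg.Agent.H73.Pauli
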