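import Cfsg.Agent.H73.Pauli.Basic

/-!
# Elements of odd prime order modulo scalars normalising the 2-group of order 64
-/

set_option autoImplicit false
set_option linter.unusedSectionVars false

namespace Cfsg.Agent.H73.Pauli

open scoped Matrix
open scoped MatrixGroups

variable {F : Type*} [Field F] {R : Subgroup (GL (Fin 4) F)} {i : F}

theorem conj_perm_pow {y : GL (Fin 4) F} {A : Type*} (v : A → GL (Fin 4) F) (σ : Equiv.Perm A)
    (hσ : ∀ a, v (σ a) = y * v a * y⁻¹) : ∀ (n : ℕ) (a : A), v ((σ ^ n) a) = y ^ n * v a * (y ^ n)⁻¹ := by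
  intro n
  induction n with
  | zero => intro a; simp
  | succ n ih =>
    intro a
    rw [pow_succ' σ, Equiv.Perm.mul_apply, hσ, ih, pow_succ' y, _root_.mul_inv_rev]
    simp only [mul_assoc]

theorem perm_fixed_modEq {A : Type*} [Finite A] {r : ℕ} [Fact r.Prime] (σ : Equiv.Perm A)
    (h : σ ^ r = 1) : Nat.card A ≡ Nat.card {a // σ a = a} [MOD r] := by
  classical
  haveI := Fintype.ofFinite A
  have h' := Equiv.Perm.card_compl_support_modEq (p := r) (n := 1) (σ := σ) (by rwa [pow_one])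
  rw [Nat.card_eq_fintype_card, Nat.card_eq_fintype_card, Fintype.card_subtype]
  refine h'.symm.trans ?_
  rw [show σ.supportᶜ = Finset.univ.filter (fun a => σ a = a) by ext a; simp]

variable (hd : PauliData R i)
include hd

/-- A scalar commutator with `y` is trivial. -/
theorem scalar_commutator_eq_one {y g u : GL (Fin 4) F} (huR : u ∈ R) (hus : IsScalar u) {r : ℕ}
    (hr : Odd r) (hs : IsScalar (y ^ r)) (hstep : y * g * y⁻¹ = u * g) : u = 1 := by
  have hn : ∀ n : ℕ, y ^ n * g * (y ^ n)⁻¹ = u ^ n * g := by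
    intro n
    induction n with
    | zero => simp
    | succ n ih =>
      calc y ^ (n + 1) * g * (y ^ (n + 1))⁻¹ = y * (y ^ n * g * (y ^ n)⁻¹) * y⁻¹ := by
            rw [pow_succ' y, _root_.mul_inv_rev]; simp only [mul_assoc]
        _ = y * u ^ n * g * y⁻¹ := by rw [ih]; simp only [mul_assoc]
        _ = u ^ n * (y * g * y⁻¹) := by
            rw [((hus.commute y).pow_left n).symm.eq]; simp only [mul_assoc]
        _ = _ := by rw [hstep, pow_succ, mul_assoc]
  have hur : u ^ r = 1 := by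
    have h := hn r
    rw [commute_of_scalar_pow hs] at h
    exact mul_eq_right.1 h.symm
  obtain ⟨c, hc⟩ := hus
  have hu4 : u ^ 4 = 1 := Units.ext (by
    rw [Units.val_pow_eq_pow_val, hc, smul_pow, one_pow, hd.scalar_pow u huR c hc, one_smul, Units.val_one])
  rw [← orderOf_eq_one_iff]
  refine Nat.dvd_one.1 ?_
  have hg1 : Nat.gcd 4 r = 1 := ((Nat.coprime_two_left.2 hr).pow_left 2)
  rw [← hg1]
  exact Nat.dvd_gcd (orderOf_dvd_of_pow_eq_one hu4) (orderOf_dvd_of_pow_eq_one hur)

/-- The elements of `R` fixed by `y`. -/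
theorem card_centralizer_modEq {y : GL (Fin 4) F} (hy : y ∈ Cfsg.Geo.subgroupNormalizer R) {r : ℕ}
    [Fact r.Prime] (hs : IsScalar (y ^ r)) :
    64 ≡ Nat.card ↥(R ⊓ Subgroup.centralizer {y}) [MOD r] := by
  classical
  haveI : Finite R := Nat.finite_of_card_ne_zero (by rw [hd.card]; norm_num)
  let σ : Equiv.Perm R :=
    { toFun := fun a => ⟨y * a.1 * y⁻¹, (Subgroup.mem_normalizer_iff.1 hy a.1).1 a.2⟩
      invFun := fun a => ⟨y⁻¹ * a.1 * y, ((Subgroup.mem_normalizer_iff'').1 hy a.1).1 a.2⟩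
      left_inv := fun a => Subtype.ext (by show y⁻¹ * (y * a.1 * y⁻¹) * y = a.1; group)
      right_inv := fun a => Subtype.ext (by show y * (y⁻¹ * a.1 * y) * y⁻¹ = a.1; group) }
  have hσ : σ ^ r = 1 := Equiv.ext fun a => Subtype.ext (by
    rw [conj_perm_pow (fun a : R => a.1) σ (fun a => rfl) r a, commute_of_scalar_pow hs]; rfl)
  have h := perm_fixed_modEq σ hσ
  rw [hd.card] at h
  suffices e : Nat.card {a // σ a = a} = Nat.card ↥(R ⊓ Subgroup.centralizer {y}) by rwa [e] at h
  refine Nat.card_congr ?_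
  refine
    { toFun := fun a => ⟨a.1.1, a.1.2, Subgroup.mem_centralizer_singleton_iff.2 ?_⟩
      invFun := fun a => ⟨⟨a.1, a.2.1⟩, Subtype.ext ?_⟩
      left_inv := fun a => rfl
      right_inv := fun a => rfl }
  · exact (mul_inv_eq_iff_eq_mul.1 (congrArg Subtype.val a.2)).symm
  · show y * a.1 * y⁻¹ = a.1
    rw [mul_inv_eq_iff_eq_mul]
    exact (Subgroup.mem_centralizer_singleton_iff.1 a.2.2).symm

/-- The scalars of `R`. -/
theorem scalars_le_centralizer (y : GL (Fin 4) F) :
    ∀ g ∈ R, IsScalar g → g ∈ R ⊓ Subgroup.centralizer {y} := fun g hg hs =>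
  ⟨hg, Subgroup.mem_centralizer_singleton_iff.2 (hs.commute y).eq⟩

/-- The four scalars of `R`. -/
theorem exists_scalar_subgroup :
    ∃ Z : Subgroup (GL (Fin 4) F), Z ≤ R ∧ Nat.card Z = 4 ∧ ∀ g ∈ Z, IsScalar g := by
  obtain ⟨g, hg⟩ := exists_scalar hd.i_ne_zero
  refine ⟨Subgroup.zpowers g, Subgroup.zpowers_le.2 (hd.imem g hg), ?_, ?_⟩
  · rw [Nat.card_zpowers]
    have hp : ∀ n : ℕ, ((g ^ n : GL (Fin 4) F) : Matrix (Fin 4) (Fin 4) F) = (i ^ n) • 1 := fun n => by
      rw [Units.val_pow_eq_pow_val, hg, smul_pow, one_pow]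
    refine (orderOf_eq_iff (by norm_num)).2 ⟨Units.ext ?_, fun m hm hm0 h => ?_⟩
    · rw [hp, show i ^ 4 = 1 by linear_combination (i * i - 1) * hd.i_sq, one_smul, Units.val_one]
    · have h' := scalar_inj (((hp m).symm.trans (congrArg Units.val h)).trans (one_smul F _).symm)
      interval_cases m
      · exact hd.two (by linear_combination hd.i_sq - (1 + i) * h')
      · exact hd.two (by linear_combination hd.i_sq - h')
      · exact hd.two (by linear_combination (1 - (i - 1) * i) * hd.i_sq + (i - 1) * h')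
  · intro a ha
    obtain ⟨n, rfl⟩ := (Subgroup.mem_zpowers_iff).1 ha
    have hc : g ∈ Cfsg.Geo.scalars (Fin 4) F :=
      (Cfsg.Geo.mem_scalars_iff g).2 ⟨Units.mk0 i hd.i_ne_zero, hg⟩
    obtain ⟨c, hc'⟩ := (Cfsg.Geo.mem_scalars_iff _).1 (zpow_mem hc n)
    exact ⟨c, hc'⟩

/-- A subgroup of `R` fixed by `y` has order `4 · 2^j`. -/
theorem card_centralizer (y : GL (Fin 4) F) :
    ∃ j ≤ 4, Nat.card ↥(R ⊓ Subgroup.centralizer {y}) = 4 * 2 ^ j := by
  haveI : Finite R := Nat.finite_of_card_ne_zero (by rw [hd.card]; norm_num)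
  obtain ⟨Z, hZ, hZc, hZs⟩ := exists_scalar_subgroup hd
  have h1 : Nat.card ↥(R ⊓ Subgroup.centralizer {y}) ∣ 2 ^ 6 := by
    rw [show (2 : ℕ) ^ 6 = Nat.card R by rw [hd.card]; norm_num]
    exact Subgroup.card_dvd_of_le inf_le_left
  obtain ⟨k, hk, hk'⟩ := (Nat.dvd_prime_pow Nat.prime_two).1 h1
  have h2 : 2 ^ 2 ∣ 2 ^ k := by
    have := Subgroup.card_dvd_of_le (H := Z) (K := R ⊓ Subgroup.centralizer {y})
      fun g hg => scalars_le_centralizer hd y g (hZ hg) (hZs g hg)
    rw [hk', hZc] at this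
    simpa using this
  have h3 : 2 ≤ k := (Nat.pow_dvd_pow_iff_le_right (by norm_num)).1 h2
  refine ⟨k - 2, by omega, ?_⟩
  rw [hk', show (4 : ℕ) = 2 ^ 2 by norm_num, ← pow_add, Nat.add_sub_cancel' h3]

theorem scalar_of_card_centralizer {y : GL (Fin 4) F}
    (h : Nat.card ↥(R ⊓ Subgroup.centralizer {y}) = 64) : IsScalar y := by
  haveI : Finite R := Nat.finite_of_card_ne_zero (by rw [hd.card]; norm_num)
  refine hd.scalar_of_commute fun g hg => ?_
  have he := Subgroup.eq_of_le_of_card_ge (inf_le_left : R ⊓ Subgroup.centralizer {y} ≤ R) (by rw [h, hd.card])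
  rw [← he] at hg
  exact (Subgroup.mem_centralizer_singleton_iff.1 hg.2).symm

/-- `r ≥ 7`. -/
theorem scalar_of_seven_le {y : GL (Fin 4) F} (hy : y ∈ Cfsg.Geo.subgroupNormalizer R) {r : ℕ}
    [Fact r.Prime] (hr : 7 ≤ r) (hs : IsScalar (y ^ r)) : IsScalar y := by
  classical
  haveI : Finite R := Nat.finite_of_card_ne_zero (by rw [hd.card]; norm_num)
  have h := card_centralizer_modEq hd hy hs
  obtain ⟨j, hj, hjc⟩ := card_centralizer hd y
  rw [hjc] at h
  have hdvd : r ∣ 4 * (16 - 2 ^ j) := by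
    have := (Nat.modEq_iff_dvd' (by
      have : 2 ^ j ≤ 2 ^ 4 := Nat.pow_le_pow_right (by norm_num) hj
      omega)).1 h.symm
    rwa [show 64 = 4 * 16 by norm_num, ← Nat.mul_sub] at this
  have hrp : r.Prime := Fact.out
  have hdvd' : r ∣ 16 - 2 ^ j := (hrp.dvd_mul.1 hdvd).resolve_left fun h4 => by
    have := Nat.le_of_dvd (by norm_num) h4
    omega
  by_cases hj4 : j = 4
  · exact scalar_of_card_centralizer hd (by rw [hjc, hj4]; norm_num)
  exfalso
  have hr7 : r = 7 ∧ j = 1 := by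
    have key : ∀ a b : ℕ, r ∣ a * b → (a ≠ 0 ∧ a < 7) → r ∣ b := fun a b h ha => (hrp.dvd_mul.1 h).resolve_left fun h' => by
      have := Nat.le_of_dvd (Nat.pos_of_ne_zero (ha.1)) h'
      omega
    obtain rfl | rfl | rfl | rfl : j = 0 ∨ j = 1 ∨ j = 2 ∨ j = 3 := by omega
    · have := Nat.le_of_dvd (by norm_num) (key 3 5 hdvd' (by norm_num)); omega
    · exact ⟨(Nat.prime_dvd_prime_iff_eq hrp (by norm_num)).1 (key 2 7 hdvd' (by norm_num)), rfl⟩
    · have := Nat.le_of_dvd (by norm_num) (key 4 3 hdvd' (by norm_num)); omega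
    · have := Nat.le_of_dvd (by norm_num) (key 4 2 hdvd' (by norm_num)); omega
  obtain ⟨rfl, rfl⟩ := hr7
  set C := R ⊓ Subgroup.centralizer {y} with hC
  obtain ⟨Z, hZ, hZc, hZs⟩ := exists_scalar_subgroup hd
  have hC8 : Nat.card C = 8 := by rw [hjc]; norm_num
  haveI : Finite C := Nat.finite_of_card_ne_zero (by omega)
  -- a non-scalar element fixed by y
  obtain ⟨g, hgC, hgs⟩ : ∃ g ∈ C, ¬ IsScalar g := by
    by_contra hcon
    push Not at hcon
    obtain ⟨t, ht⟩ := exists_scalar hd.i_ne_zero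
    have hle : C ≤ Subgroup.zpowers t := fun g hg => by
      obtain ⟨c, hc⟩ := hcon g hg
      have hc4 := hd.scalar_pow g hg.1 c hc
      have hcases : c = 1 ∨ c = -1 ∨ c = i ∨ c = -i := by
        have : (c - 1) * (c + 1) * ((c - i) * (c + i)) = 0 := by
          linear_combination hc4 - (c * c - 1) * hd.i_sq
        rcases mul_eq_zero.1 this with e | e <;> rcases mul_eq_zero.1 e with e | e
        · exact Or.inl (by linear_combination e)
        · exact Or.inr (Or.inl (by linear_combination e))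
        · exact Or.inr (Or.inr (Or.inl (by linear_combination e)))
        · exact Or.inr (Or.inr (Or.inr (by linear_combination e)))
      have hk : ∀ k : ℕ, c = i ^ k → g ∈ Subgroup.zpowers t := fun k hk => by
        have : g = t ^ k := Units.ext (by
          rw [hc, Units.val_pow_eq_pow_val, ht, smul_pow, one_pow, hk])
        exact this ▸ Subgroup.npow_mem_zpowers t k
      rcases hcases with e | e | e | e
      · exact hk 0 (by rw [e, pow_zero])
      · exact hk 2 (by rw [e, pow_two, hd.i_sq])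
      · exact hk 1 (by rw [e, pow_one])
      · exact hk 3 (by rw [e]; linear_combination -i * hd.i_sq)
    have ho : orderOf t ≤ 4 := orderOf_le_of_pow_eq_one (by norm_num) (Units.ext (by
      rw [Units.val_pow_eq_pow_val, ht, smul_pow, one_pow,
        show i ^ 4 = 1 by linear_combination (i * i - 1) * hd.i_sq, one_smul, Units.val_one]))
    haveI : Finite (Subgroup.zpowers t) := Nat.finite_of_card_ne_zero (by
      rw [Nat.card_zpowers]
      exact (orderOf_pos_iff.2 (isOfFinOrder_iff_pow_eq_one.2 ⟨4, by norm_num, Units.ext (by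
        rw [Units.val_pow_eq_pow_val, ht, smul_pow, one_pow,
          show i ^ 4 = 1 by linear_combination (i * i - 1) * hd.i_sq, one_smul, Units.val_one])⟩)).ne')
    have := Subgroup.card_le_of_le hle
    rw [Nat.card_zpowers, hC8] at this
    omega
  -- every element fixed by y commutes with g
  have hcom : ∀ c ∈ C, Commute g c := by
    intro c hc
    set D := C ⊓ Subgroup.centralizer {g}
    have hlt : Z < D := by
      refine lt_of_le_of_ne (fun z hz => ⟨scalars_le_centralizer hd y z (hZ hz) (hZs z hz),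
        Subgroup.mem_centralizer_singleton_iff.2 ((hZs z hz).commute g).eq⟩) fun e => hgs (hZs g ?_)
      rw [e]
      exact ⟨hgC, Subgroup.mem_centralizer_singleton_iff.2 rfl⟩
    have hDC : D ≤ C := inf_le_left
    haveI : Finite D := Finite.of_injective _ (Subgroup.inclusion_injective hDC)
    have h8 : Nat.card D ∣ 2 ^ 3 := by rw [show (2 : ℕ) ^ 3 = 8 by norm_num, ← hC8]; exact Subgroup.card_dvd_of_le hDC
    have h4 : 4 < Nat.card D := by
      refine lt_of_eq_of_lt hZc.symm (lt_of_le_of_ne (Subgroup.card_le_of_le hlt.le) fun e => hlt.ne ?_)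
      exact Subgroup.eq_of_le_of_card_ge hlt.le e.ge
    obtain ⟨k, hk, hk'⟩ := (Nat.dvd_prime_pow Nat.prime_two).1 h8
    have hD : D = C := Subgroup.eq_of_le_of_card_ge hDC (by
      interval_cases k <;> omega)
    rw [← hD] at hc
    exact (Subgroup.mem_centralizer_singleton_iff.1 hc.2).symm
  -- the elements anticommuting with g
  obtain ⟨a, ha, hga⟩ := hd.exists_anti hgC.1 hgs
  set A := {x : R // g * x.1 = -(x.1 * g)} with hA
  have hA32 : Nat.card A = 32 := by
    let B := {x : R // ¬ g * x.1 = -(x.1 * g)}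
    have hflip : ∀ x : R, ¬ g * x.1 = -(x.1 * g) ↔ g * (x.1 * a) = -(x.1 * a * g) := by
      intro x
      rcases hd.comm g hgC.1 x.1 x.2 with e | e
      · simp only [e, ← mul_assoc]
        exact ⟨fun _ => by rw [mul_assoc, hga, mul_neg, mul_assoc], fun _ h => hd.ne_neg _ h⟩
      · simp only [e, not_true, false_iff, ← mul_assoc]
        intro h
        rw [neg_mul, mul_assoc, hga, mul_neg, neg_neg, ← mul_assoc] at h
        exact hd.ne_neg _ h
    have e : B ≃ A := (Equiv.mulRight (⟨a, ha⟩ : R)).subtypeEquiv hflip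
    have h1 : Nat.card A + Nat.card B = 64 := by
      rw [← Nat.card_sum, ← hd.card]
      exact Nat.card_congr (Equiv.sumCompl _)
    rw [Nat.card_congr e] at h1
    omega
  have hgy : y * g * y⁻¹ = g :=
    mul_inv_eq_iff_eq_mul.2 (Subgroup.mem_centralizer_singleton_iff.1 hgC.2).symm
  let τ : Equiv.Perm A :=
    Equiv.ofBijective (fun x => ⟨⟨y * x.1.1 * y⁻¹, conj_mem_of_normalizer hy x.1.2⟩, by
      have h := congrArg (fun z => y * z * y⁻¹) x.2
      simp only [mul_neg, neg_mul] at h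
      show g * (y * x.1.1 * y⁻¹) = -(y * x.1.1 * y⁻¹ * g)
      calc g * (y * x.1.1 * y⁻¹) = (y * g * y⁻¹) * (y * x.1.1 * y⁻¹) := by rw [hgy]
        _ = y * (g * x.1.1) * y⁻¹ := by group
        _ = -(y * (x.1.1 * g) * y⁻¹) := h
        _ = -((y * x.1.1 * y⁻¹) * (y * g * y⁻¹)) := by congr 1; group
        _ = _ := by rw [hgy]⟩) (Finite.injective_iff_bijective.1 fun x x' h => by
      have h' : y * x.1.1 * y⁻¹ = y * x'.1.1 * y⁻¹ := congrArg (fun z : A => z.1.1) h
      exact Subtype.ext (Subtype.ext (mul_left_cancel (mul_right_cancel h'))))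
  have hτ : τ ^ 7 = 1 := Equiv.ext fun x => Subtype.ext (Subtype.ext (by
    rw [conj_perm_pow (fun x : A => x.1.1) τ (fun x => rfl) 7 x, commute_of_scalar_pow hs]; rfl))
  have hmod := perm_fixed_modEq τ hτ
  haveI : IsEmpty {x : A // τ x = x} := ⟨fun x => by
    have hx : y * x.1.1.1 * y⁻¹ = x.1.1.1 := congrArg (fun z : A => z.1.1) x.2
    exact hd.not_commute_of_anti x.1.2 (hcom _ ⟨x.1.1.2, Subgroup.mem_centralizer_singleton_iff.2
      (mul_inv_eq_iff_eq_mul.1 hx).symm⟩)⟩
  rw [hA32, Nat.card_of_isEmpty] at hmod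
  exact absurd hmod (by decide)

/-- If every element of `R` commutes with its image under `y` and `y^r` is scalar for odd `r`,
then `y` is scalar. -/
theorem scalar_of_conj_commute {y : GL (Fin 4) F} (hy : y ∈ Cfsg.Geo.subgroupNormalizer R) {r : ℕ}
    (hr : Odd r) (hs : IsScalar (y ^ r)) (hc : ∀ g ∈ R, Commute (y * g * y⁻¹) g) : IsScalar y := by
  set φ : GL (Fin 4) F → GL (Fin 4) F := fun g => y * g * y⁻¹ with hφdef
  have hφm : ∀ g ∈ R, φ g ∈ R := fun g hg => conj_mem_of_normalizer hy hg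
  have hφmul : ∀ g h, φ (g * h) = φ g * φ h := fun g h => by simp only [hφdef]; group
  have hφc : ∀ g h, Commute (φ g) (φ h) ↔ Commute g h := fun g h => Commute.conj_iff y
  have hflip : ∀ g ∈ R, ∀ h ∈ R, (Commute (φ h) g ↔ Commute (φ g) h) := by
    intro g hg h hh
    have hgh : (φ g * φ h) * (g * h) = (g * h) * (φ g * φ h) := by
      rw [← hφmul]; exact (hc _ (mul_mem hg hh)).eq
    have e1 : φ g * g = g * φ g := (hc g hg).eq
    have e2 : φ h * h = h * φ h := (hc h hh).eq
    constructor <;> intro hC <;> by_contra hn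
    · have e3 := hd.anti_of_not (hφm g hg) hh hn
      refine hd.ne_neg (g * h * (φ g * φ h)) (hgh.symm.trans ?_)
      calc φ g * φ h * (g * h) = φ g * (φ h * g) * h := by simp only [mul_assoc]
        _ = (φ g * g) * (φ h * h) := by rw [hC.eq]; simp only [mul_assoc]
        _ = g * (φ g * h) * φ h := by rw [e1, e2]; simp only [mul_assoc]
        _ = _ := by rw [e3]; simp only [mul_neg, neg_mul, mul_assoc]
    · have e3 := hd.anti_of_not (hφm h hh) hg hn
      refine hd.ne_neg (g * h * (φ g * φ h)) (hgh.symm.trans ?_)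
      calc φ g * φ h * (g * h) = φ g * (φ h * g) * h := by simp only [mul_assoc]
        _ = -((φ g * g) * (φ h * h)) := by rw [e3]; simp only [mul_neg, neg_mul, mul_assoc]
        _ = -(g * (φ g * h) * φ h) := by rw [e1, e2]; simp only [mul_assoc]
        _ = _ := by rw [hC.eq]; simp only [mul_assoc]
  have h2 : ∀ g ∈ R, ∀ h ∈ R, (Commute (φ (φ g)) h ↔ Commute g h) := by
    intro g hg h hh
    rw [← hflip _ (hφm g hg) h hh, hφc]
    exact ⟨Commute.symm, Commute.symm⟩
  have hy2 : ∀ g ∈ R, Commute (y ^ 2) g := by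
    intro g hg
    obtain ⟨c, hcc⟩ := hd.scalar_of_commute (y := φ (φ g) * g⁻¹) fun h hh => by
      by_cases hgh : Commute g h
      · exact ((h2 g hg h hh).2 hgh).mul_left hgh.inv_left
      · have e1 := hd.anti_of_not hg hh hgh
        have e2 := hd.anti_of_not (hφm _ (hφm g hg)) hh (fun e => hgh ((h2 g hg h hh).1 e))
        have e3 : g⁻¹ * h = -(h * g⁻¹) := by
          rw [inv_mul_eq_iff_eq_mul, mul_neg, ← mul_assoc, e1, neg_mul, neg_neg, mul_inv_cancel_right]
        show φ (φ g) * g⁻¹ * h = h * (φ (φ g) * g⁻¹)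
        rw [mul_assoc, e3, mul_neg, ← mul_assoc, e2, neg_mul, neg_neg, mul_assoc]
    set u := φ (φ g) * g⁻¹ with hu
    have huR : u ∈ R := mul_mem (hφm _ (hφm g hg)) (inv_mem hg)
    have hstep : y ^ 2 * g * (y ^ 2)⁻¹ = u * g := by
      simp only [hu, hφdef, pow_two]; group
    have hu1 : u = 1 := scalar_commutator_eq_one hd huR ⟨c, hcc⟩ hr (by
      obtain ⟨d, hd'⟩ := hs
      exact ⟨d ^ 2, by rw [← pow_mul, mul_comm 2 r, pow_mul, Units.val_pow_eq_pow_val, hd', smul_pow, one_pow]⟩) hstep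
    rw [hu1, one_mul, mul_inv_eq_iff_eq_mul] at hstep
    exact hstep
  obtain ⟨m, rfl⟩ := hr
  refine hd.scalar_of_commute fun g hg => ?_
  have h1 : Commute (y ^ (2 * m + 1)) g := hs.commute g
  rw [pow_succ', pow_mul] at h1
  have h3 : y = y * (y ^ 2) ^ m * ((y ^ 2) ^ m)⁻¹ := by group
  rw [h3]
  exact h1.mul_left ((hy2 g hg).pow_left m).inv_left

/-- `y - c` of rank one. -/
theorem scalar_of_rank_one {y : GL (Fin 4) F} (hy : y ∈ Cfsg.Geo.subgroupNormalizer R) {r : ℕ}
    (hr : Odd r) (hs : IsScalar (y ^ r)) (c : F)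
    (hrk : ((y : Matrix (Fin 4) (Fin 4) F) - c • 1).rank ≤ 1) : IsScalar y := by
  refine scalar_of_conj_commute hd hy hr hs fun g hg => ?_
  set u := y * g * y⁻¹ * g⁻¹ with hu
  have huR : u ∈ R := mul_mem (conj_mem_of_normalizer hy hg) (inv_mem hg)
  set N := (y : Matrix (Fin 4) (Fin 4) F) - c • 1 with hN
  set G := (g : Matrix (Fin 4) (Fin 4) F) with hG
  have hr2 : ((u : Matrix (Fin 4) (Fin 4) F) - 1).rank ≤ 2 := by
    have e : (u : Matrix (Fin 4) (Fin 4) F) - 1
        = (N * G - G * N) * ((y⁻¹ * g⁻¹ : GL (Fin 4) F) : Matrix (Fin 4) (Fin 4) F) := by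
      have e1 : N * G - G * N = (y : Matrix (Fin 4) (Fin 4) F) * G - G * y := by
        simp only [hN, sub_mul, mul_sub, Matrix.smul_mul, Matrix.mul_smul, one_mul, mul_one]
        abel
      rw [e1, sub_mul, hG, ← Units.val_mul, ← Units.val_mul, ← Units.val_mul, ← Units.val_mul,
        ← Units.val_one]
      congr 2 <;> (try simp only [hu]) <;> group
    rw [e]
    refine (Matrix.rank_mul_le_left _ _).trans ?_
    have h1 := (Matrix.rank_mul_le_left N G).trans hrk
    have h2 := (Matrix.rank_mul_le_right G N).trans hrk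
    have h3 : (N * G - G * N).rank ≤ (N * G).rank + (G * N).rank := by
      unfold Matrix.rank
      rw [Matrix.mulVecLin, Matrix.mulVecLin]
      refine le_trans (Submodule.finrank_mono ?_) (Submodule.finrank_add_le_finrank_add_finrank _ _)
      rintro _ ⟨w, rfl⟩
      exact Submodule.mem_sup.2 ⟨_, ⟨w, rfl⟩, _, Submodule.neg_mem _ ⟨w, rfl⟩, by
        simp [Matrix.sub_mulVec, sub_eq_add_neg]⟩
    omega
  rcases hd.comm _ (conj_mem_of_normalizer hy hg) g hg with e | e
  · exact e
  exfalso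
  -- u squares to -1
  have hu2 : u * u = -1 := by
    set a := y * g * y⁻¹ with ha
    have e' : g⁻¹ * a = -(a * g⁻¹) := by
      calc g⁻¹ * a = g⁻¹ * (a * g) * g⁻¹ := by group
        _ = -(a * g⁻¹) := by rw [e, mul_neg, neg_mul, inv_mul_cancel_left]
    have hga : g * g * (a * a)⁻¹ = 1 := by
      have : a * a = g * g := by
        rcases hd.sq g hg with e1 | e1
        · rw [ha, show y * g * y⁻¹ * (y * g * y⁻¹) = y * (g * g) * y⁻¹ by group, e1]; group
        · rw [ha, show y * g * y⁻¹ * (y * g * y⁻¹) = y * (g * g) * y⁻¹ by group, e1, mul_neg, mul_one,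
            neg_mul, mul_inv_cancel]
      rw [this, mul_inv_cancel]
    calc u * u = a * (g⁻¹ * a) * g⁻¹ := by rw [hu]; simp only [mul_assoc]
      _ = -((a * a) * (g * g)⁻¹) := by rw [e']; simp only [mul_neg, neg_mul, _root_.mul_inv_rev, mul_assoc]
      _ = -1 := by rw [mul_inv_eq_one.1 hga, mul_inv_cancel]
  obtain ⟨v, hv0, hv⟩ : ∃ v, v ≠ 0 ∧ ((u : Matrix (Fin 4) (Fin 4) F) - 1) *ᵥ v = 0 := by
    refine Matrix.exists_mulVec_eq_zero_iff.2 ?_
    by_contra hne
    have := Matrix.rank_of_isUnit _ ((Matrix.isUnit_iff_isUnit_det _).2 (isUnit_iff_ne_zero.2 hne))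
    rw [Fintype.card_fin] at this
    omega
  rw [Matrix.sub_mulVec, Matrix.one_mulVec, sub_eq_zero] at hv
  have h4 := congrArg (fun a : GL (Fin 4) F => (a : Matrix (Fin 4) (Fin 4) F) *ᵥ v) hu2
  simp only [Units.val_mul, ← Matrix.mulVec_mulVec, hv, Units.val_neg, Units.val_one, Matrix.neg_mulVec, Matrix.one_mulVec] at h4
  exact hv0 (funext fun j => (mul_eq_zero.1 (show (2 : F) * v j = 0 by
    have := congrFun h4 j
    simp only [Pi.neg_apply] at this
    linear_combination this)).resolve_left hd.two)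

/-- The trace identity. -/
theorem card_centralizer_eq_traces {y : GL (Fin 4) F} (hy : y ∈ Cfsg.Geo.subgroupNormalizer R) {r : ℕ}
    (hr : Odd r) (hs : IsScalar (y ^ r)) :
    (Nat.card ↥(R ⊓ Subgroup.centralizer {y}) : F) =
      4 * (y : Matrix (Fin 4) (Fin 4) F).trace * ((y⁻¹ : GL (Fin 4) F) : Matrix (Fin 4) (Fin 4) F).trace := by
  classical
  haveI : Finite R := Nat.finite_of_card_ne_zero (by rw [hd.card]; norm_num)
  haveI := Fintype.ofFinite R
  set M : Matrix (Fin 4) (Fin 4) F := ∑ g : R,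
    ((g.1 * y * g.1⁻¹ : GL (Fin 4) F) : Matrix (Fin 4) (Fin 4) F) with hM
  obtain ⟨s, hMs⟩ := hd.schur M fun h hh => by
    rw [hM, Finset.sum_mul, Finset.mul_sum]
    refine (Fintype.sum_equiv (Equiv.mulLeft (⟨h, hh⟩ : R)) _ _ fun g => ?_).symm
    rw [← Units.val_mul, ← Units.val_mul]
    congr 1
    show h * (g.1 * y * g.1⁻¹) = h * g.1 * y * (h * g.1)⁻¹ * h
    group
  have hcardR : Fintype.card R = 64 := by rw [← Nat.card_eq_fintype_card, hd.card]
  have htr : 4 * s = 64 * (y : Matrix (Fin 4) (Fin 4) F).trace := by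
    have h := congrArg Matrix.trace hMs
    rw [hM, Matrix.trace_sum] at h
    simp only [Units.val_mul, Matrix.trace_units_conj, Finset.sum_const, Finset.card_univ,
      hcardR, nsmul_eq_mul, Matrix.trace_smul, Matrix.trace_one,
      Fintype.card_fin, smul_eq_mul] at h
    push_cast at h
    linear_combination -h
  have key : ∀ g : R, (((g.1 * y * g.1⁻¹ : GL (Fin 4) F) : Matrix (Fin 4) (Fin 4) F) *
      ((y⁻¹ : GL (Fin 4) F) : Matrix (Fin 4) (Fin 4) F)).trace =
        if y * g.1⁻¹ = g.1⁻¹ * y then 4 else 0 := by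
    intro g
    rw [← Units.val_mul]
    set u := g.1 * y * g.1⁻¹ * y⁻¹ with hu
    have huR : u ∈ R := by
      rw [hu, show g.1 * y * g.1⁻¹ * y⁻¹ = g.1 * (y * g.1⁻¹ * y⁻¹) by group]
      exact mul_mem g.2 (conj_mem_of_normalizer hy (inv_mem g.2))
    by_cases hus : IsScalar u
    · obtain ⟨c, hc⟩ := hus
      have hus' : IsScalar u := ⟨c, hc⟩
      have hstep : y * g.1⁻¹ * y⁻¹ = g.1⁻¹ * u := by rw [hu]; group
      rw [← (hus'.commute g.1⁻¹).eq] at hstep
      have hu1 : u = 1 := scalar_commutator_eq_one hd huR hus' hr hs hstep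
      rw [hu1, one_mul, mul_inv_eq_iff_eq_mul] at hstep
      rw [if_pos hstep, hu1, Units.val_one, Matrix.trace_one, Fintype.card_fin]
      norm_num
    · rw [hd.trace_eq_zero huR hus, if_neg]
      intro h
      refine hus ⟨1, ?_⟩
      have : u = 1 := by
        rw [hu, mul_assoc g.1, h]; group
      rw [this, Units.val_one, one_smul]
  have hcard : Nat.card {g : R // y * g.1⁻¹ = g.1⁻¹ * y} = Nat.card ↥(R ⊓ Subgroup.centralizer {y}) :=
    Nat.card_congr
      { toFun := fun g => ⟨g.1.1⁻¹, R.inv_mem g.1.2, Subgroup.mem_centralizer_singleton_iff.2 g.2.symm⟩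
        invFun := fun a => ⟨⟨a.1⁻¹, inv_mem (show a.1 ∈ R from a.2.1)⟩, by
          rw [inv_inv]; exact (Subgroup.mem_centralizer_singleton_iff.1 a.2.2).symm⟩
        left_inv := fun g => by simp
        right_inv := fun a => by simp }
  have hsum := congrArg (fun X => (X * ((y⁻¹ : GL (Fin 4) F) : Matrix (Fin 4) (Fin 4) F)).trace) hMs
  simp only [hM, Finset.sum_mul, Matrix.trace_sum, key, Matrix.smul_mul, one_mul, Matrix.trace_smul,
    smul_eq_mul, Finset.sum_ite, Finset.sum_const_zero, add_zero, Finset.sum_const, nsmul_eq_mul] at hsum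
  rw [← hcard, Nat.card_eq_fintype_card, Fintype.card_subtype]
  have h4 : (4 : F) ≠ 0 := by
    rw [show (4 : F) = 2 * 2 by norm_num]; exact mul_ne_zero hd.two hd.two
  refine mul_left_cancel₀ h4 (mul_left_cancel₀ h4 ?_)
  linear_combination 4 * hsum + ((y⁻¹ : GL (Fin 4) F) : Matrix (Fin 4) (Fin 4) F).trace * htr

end Cfsg.Agent.H73.Pauli
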